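import Cfsg.Agent.Lib.M12Order.Basic
import Cfsg.Agent.Lib.CharTheory.DihedralEight

/-!
# No simple group of order 15840 with ten normalizer classes at eleven
-/

set_option autoImplicit false
set_option linter.style.haveILetI false
set_option linter.unusedSectionVars false

namespace Cfsg.Agent.M12Order.Graph

open Subgroup
open Cfsg.Agent.Characters Cfsg.Agent.Blocks Cfsg.Agent.PrimeBlock
open Cfsg.Agent.SmallSimple
open scoped ComplexConjugate

universe u

theorem deg_scan : ∀ d ∈ divs, d ∣ 15840 → 1 < d → d < 126 → d ≠ 10 →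
    (d % 11 = 1 → d ∈ [12, 45]) ∧ (d % 11 = 10 → d ∈ [32, 120]) := by
  decide +kernel

theorem cen_scan : ∀ c ∈ divs, c ∣ 15840 → 32 ∣ c → c ≤ 131 → c = 32 ∨ c = 96 := by
  decide +kernel

theorem ten_arith {i j a b c : ℤ} (ha : a % 4 = 1) (hb : b % 4 = 1) (hc : c % 4 = 1)
    (hrel : 1 + (4 * i + 4 * j) + (a + (b + c)) = 0)
    (hnorm : 1 + (4 * i * (4 * i) + 4 * j * (4 * j)) + (a * a + (b * b + c * c)) ≤ 96)
    (heq : 9216 = 1440 + 120 * (4 * i * (4 * i) + 4 * j * (4 * j)) + 32 * (a * a + (b * b + c * c))) :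
    False := by
  have g1 : 1 ≤ a * a := mul_self_pos.2 (show a ≠ 0 by omega)
  have g2 : 1 ≤ b * b := mul_self_pos.2 (show b ≠ 0 by omega)
  have g3 : 1 ≤ c * c := mul_self_pos.2 (show c ≠ 0 by omega)
  have hij : i * i + j * j = 4 := by nlinarith
  have hb3 : a * a + (b * b + c * c) = 3 := by nlinarith
  have f1 : a * a = 1 := by omega
  have f2 : b * b = 1 := by omega
  have f3 : c * c = 1 := by omega
  obtain rfl : a = 1 := by rcases mul_self_eq_one_iff.1 f1 with h | h <;> omega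
  obtain rfl : b = 1 := by rcases mul_self_eq_one_iff.1 f2 with h | h <;> omega
  obtain rfl : c = 1 := by rcases mul_self_eq_one_iff.1 f3 with h | h <;> omega
  obtain rfl : j = -1 - i := by omega
  have h : 2 * (i * i + i) = 3 := by linear_combination hij
  omega

variable {G : Type u} [Group G]

/-- An element inverting `x` has value zero at a character without fixed points at `x`. -/
theorem value_zero_of_no_fixed {χ : Cfsg.IrrCharacter G} {x t : G} (hx : x ^ 11 = 1)
    (hinv : t * x * t⁻¹ = x⁻¹) (hd : (χ : G → ℂ) 1 = 10)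
    (hv : ∀ i, 0 < i → i < 11 → (χ : G → ℂ) (x ^ i) = -1) : (χ : G → ℂ) t = 0 := by
  classical
  obtain ⟨n, ρ, hρ, hchar⟩ := χ.2
  rw [← hchar] at hd hv ⊢
  set E : (Fin n → ℂ) →ₗ[ℂ] (Fin n → ℂ) := ∑ i ∈ Finset.range 11, ρ (x ^ i) with hE
  have hshift : ρ x * E = E := by
    rw [hE, Finset.mul_sum]
    simp only [← map_mul, ← pow_succ']
    rw [Finset.sum_range_succ, hx]
    conv_rhs => rw [Finset.sum_range_succ']
    simp
  have hpow : ∀ i : ℕ, ρ (x ^ i) * E = E := fun i => by
    induction i with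
    | zero => simp
    | succ i ih => rw [pow_succ, map_mul, mul_assoc, hshift, ih]
  have hEE : E * E = (11 : ℂ) • E := by
    nth_rewrite 1 [hE]
    rw [Finset.sum_mul, Finset.sum_congr rfl fun i _ => hpow i, Finset.sum_const, Finset.card_range,
      ← Nat.cast_smul_eq_nsmul ℂ]
    norm_num
  have hidem : IsIdempotentElem ((11 : ℂ)⁻¹ • E) := by
    show ((11 : ℂ)⁻¹ • E) * ((11 : ℂ)⁻¹ • E) = _
    rw [smul_mul_smul_comm, hEE, smul_smul]
    norm_num
  have htrE : LinearMap.trace ℂ _ E = 0 := by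
    rw [hE, map_sum, Finset.sum_range_succ', Finset.sum_congr rfl (g := fun _ => (-1 : ℂ)) fun i hi => by
      exact hv (i + 1) (by omega) (by have := Finset.mem_range.1 hi; omega)]
    rw [pow_zero, show LinearMap.trace ℂ _ (ρ 1) = ρ.character 1 from rfl, hd]
    norm_num
  have hp := LinearMap.IsProj.trace (LinearMap.IsIdempotentElem.isProj_range _ hidem)
  rw [map_smul, htrE, smul_zero] at hp
  have hr : LinearMap.range ((11 : ℂ)⁻¹ • E) = ⊥ := Submodule.finrank_eq_zero.1 (by exact_mod_cast hp.symm)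
  have hE0 : E = 0 := by
    have h0 := LinearMap.range_eq_bot.1 hr
    rcases smul_eq_zero.1 h0 with h | h
    · norm_num at h
    · exact h
  have hconj : ∀ i : ℕ, ρ.character (t * x ^ i) = ρ.character t := by
    intro i
    have htx : ∀ j : ℕ, t * x ^ j * t⁻¹ = (x ^ j)⁻¹ := fun j => by
      rw [← conj_pow, hinv, inv_pow]
    have h12 : x ^ i = x ^ (6 * i) * x ^ (6 * i) := by
      rw [← pow_add, show 6 * i + 6 * i = 11 * i + i by ring, pow_add, pow_mul, hx, one_pow, one_mul]
    have h6 : (x ^ (6 * i))⁻¹ * t = t * x ^ (6 * i) := by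
      rw [← htx]; group
    have : t * x ^ i = (x ^ (6 * i))⁻¹ * t * ((x ^ (6 * i))⁻¹)⁻¹ := by
      rw [h6, inv_inv, mul_assoc, ← h12]
    rw [this, ρ.char_conj]
  have h11 : ∑ i ∈ Finset.range 11, ρ.character (t * x ^ i) = 0 := by
    show ∑ i ∈ Finset.range 11, LinearMap.trace ℂ _ (ρ (t * x ^ i)) = 0
    simp only [map_mul, ← map_sum, ← Finset.mul_sum, ← hE, hE0, mul_zero, map_zero]
  simp only [hconj, Finset.sum_const, Finset.card_range, nsmul_eq_mul] at h11
  simpa using h11

variable [Finite G] [IsSimpleGroup G] (hG : ¬ IsMulCommutative G)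

include hG

set_option maxHeartbeats 1000000 in
/-- The case of order 15840. -/
theorem no_ten (hcard : Nat.card G = 15840) {P : Sylow 11 G} (D : PBlock P)
    (ht : trivIrr G ∈ D.X) (hts : D.sgn (trivIrr G) = 1) (he : D.e = 10)
    (hC : Nat.card (centralizer ((P : Subgroup G) : Set G)) = 11) : False := by
  classical
  haveI := Fintype.ofFinite G
  haveI := Fintype.ofFinite (Cfsg.IrrCharacter G)
  obtain ⟨x, hx1, hx⟩ := D.exists_ne_one
  have hxo := D.orderOf_eq hx hx1
  have hx11 : x ^ 11 = 1 := hxo ▸ pow_orderOf_eq_one x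
  have hCx : centralizer ({x} : Set G) = centralizer ((P : Subgroup G) : Set G) := D.centralizer_eq hx hx1
  -- an inverting involution
  obtain ⟨t, hto, hinv⟩ : ∃ t : G, orderOf t = 2 ∧ t * x * t⁻¹ = x⁻¹ := by
    have hN : Nat.card (normalizer ((P : Subgroup G) : Set G)) = 110 := by
      have := relIndex_mul_relIndex ⊥ (centralizer ((P : Subgroup G) : Set G))
        (normalizer ((P : Subgroup G) : Set G)) bot_le (centralizer_le_normalizer _)
      rw [relIndex_bot_left, relIndex_bot_left, hC, D.he, he] at this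
      omega
    obtain ⟨⟨t, htN⟩, hto⟩ := exists_prime_orderOf_dvd_card'
      (G := normalizer ((P : Subgroup G) : Set G)) 2 (by rw [hN]; norm_num)
    rw [Subgroup.orderOf_mk] at hto
    refine ⟨t, hto, ?_⟩
    have h1 : t * x * t⁻¹ ∈ (P : Subgroup G) := (mem_normalizer_iff.1 htN x).1 hx
    rw [← D.zpowers_eq hx hx1] at h1
    obtain ⟨i, hi⟩ := mem_powers_iff_mem_zpowers.2 h1
    replace hi : x ^ i = t * x * t⁻¹ := hi
    have htt : t * t = 1 := by rw [← sq, ← hto]; exact pow_orderOf_eq_one t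
    have h2 : x ^ (i * i) = x ^ 1 := by
      rw [pow_mul, hi, conj_pow, hi]
      calc t * (t * x * t⁻¹) * t⁻¹ = (t * t) * x * (t * t)⁻¹ := by group
        _ = x ^ 1 := by rw [htt]; group
    rw [pow_eq_pow_iff_modEq, hxo, Nat.ModEq] at h2
    have h3 : i % 11 = 1 ∨ i % 11 = 10 := by
      have hscan : ∀ r < 11, r * r % 11 = 1 % 11 → r = 1 ∨ r = 10 := by decide
      exact hscan _ (Nat.mod_lt _ (by norm_num)) (by rw [← Nat.mul_mod]; exact h2)
    rcases h3 with h3 | h3
    · exfalso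
      rw [pow_eq_pow_mod i hx11, h3, pow_one] at hi
      have htC : t ∈ centralizer ({x} : Set G) :=
        mem_centralizer_singleton_iff.2 (eq_mul_inv_iff_mul_eq.1 hi).symm
      have := orderOf_dvd_natCard (⟨t, htC⟩ : centralizer ({x} : Set G))
      rw [Subgroup.orderOf_mk, hto, hCx, hC] at this
      norm_num at this
    · rw [← hi, pow_eq_pow_mod i hx11, h3, eq_inv_iff_mul_eq_one, ← pow_succ]
      exact hx11
  -- the eleven characters
  obtain ⟨θ, hY⟩ := Finset.card_eq_one.1 (show D.Y.card = 1 by rw [D.card_Y, he])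
  have hθ : θ ∈ D.Y := hY ▸ Finset.mem_singleton_self θ
  have hθX : θ ∉ D.X.erase (trivIrr G) := fun h =>
    Finset.disjoint_left.1 D.disj (Finset.mem_of_mem_erase h) hθ
  set S : Finset (Cfsg.IrrCharacter G) := insert θ (D.X.erase (trivIrr G)) with hS
  let σ : Cfsg.IrrCharacter G → ℤ := fun χ => if χ = θ then -D.ε else D.sgn χ
  have hSblock : ∀ χ, χ ∈ Cfsg.principalBlock D.M G ↔ χ ∈ insert (trivIrr G) S := by
    intro χ
    rw [D.mem_block, hY, hS]
    simp only [Finset.mem_insert, Finset.mem_singleton, Finset.mem_erase]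
    by_cases h : χ = trivIrr G
    · subst h; simp [ht]
    · simp [h, or_comm]
  have hSne : ∀ χ ∈ S, χ ≠ trivIrr G := by
    intro χ hχ
    rcases Finset.mem_insert.1 hχ with rfl | h
    · exact fun e => Finset.disjoint_left.1 D.disj ht (e ▸ hθ)
    · exact (Finset.mem_erase.1 h).1
  have hσ : ∀ χ ∈ S, σ χ = 1 ∨ σ χ = -1 := by
    intro χ hχ
    simp only [σ]
    rcases Finset.mem_insert.1 hχ with rfl | h
    · rw [if_pos rfl]; rcases D.ε_eq with e | e <;> rw [e] <;> norm_num
    · rw [if_neg fun e : χ = θ => hθX (e ▸ h)]; exact D.sgn_eq χ (Finset.mem_of_mem_erase h)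
  have hσd : ∀ χ ∈ S, (11 : ℤ) ∣ σ χ - (deg χ : ℤ) := by
    intro χ hχ
    simp only [σ]
    rcases Finset.mem_insert.1 hχ with rfl | h
    · rw [if_pos rfl]
      have := Int.modEq_iff_dvd.1 (D.deg_Y χ hθ)
      rw [he] at this
      push_cast at this
      obtain ⟨c, hc⟩ := this
      exact ⟨c - D.ε, by linarith⟩
    · rw [if_neg fun e : χ = θ => hθX (e ▸ h)]
      exact Int.modEq_iff_dvd.1 (D.deg_X χ (Finset.mem_of_mem_erase h))
  have hσx : ∀ χ ∈ S, ∀ y ∈ (P : Subgroup G), y ≠ 1 → (χ : G → ℂ) y = (σ χ : ℂ) := by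
    intro χ hχ y hy hy1
    simp only [σ]
    rcases Finset.mem_insert.1 hχ with rfl | h
    · rw [if_pos rfl]
      have := D.sum_Y hy hy1
      rw [hY, Finset.sum_singleton] at this
      push_cast; exact this
    · rw [if_neg fun e : χ = θ => hθX (e ▸ h)]
      exact D.val_X' (Finset.mem_of_mem_erase h) hy hy1
  have hrel : ∀ g : G, ¬ 11 ∣ orderOf g → 1 + ∑ χ ∈ S, (σ χ : ℂ) * (χ : G → ℂ) g = 0 := by
    intro g hg
    have h := D.rel θ hθ g hg
    rw [← Finset.add_sum_erase _ _ ht, hts] at h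
    rw [hS, Finset.sum_insert hθX, Finset.sum_congr rfl (g := fun χ => (D.sgn χ : ℂ) * (χ : G → ℂ) g)
      fun χ hχ => by simp only [σ, if_neg fun e : χ = θ => hθX (e ▸ hχ)]]
    simp only [trivIrr_coe, σ, if_pos rfl] at h ⊢
    push_cast at h ⊢
    linear_combination -h
  have hdeg : ∀ χ ∈ S, σ χ * (deg χ : ℤ) ∈ ({12, -32, 45, -120} : Finset ℤ) := by
    intro χ hχ
    have hne := hSne χ hχ
    have h1 := deg_ne_one hG hne
    have h0 : 0 < deg χ := charDegree_pos χ
    have hdvd : deg χ ∣ 15840 := hcard ▸ char_degree_dvd_card χ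
    have h126 : deg χ < 126 := by
      have h := hcard ▸ deg_sq_lt hne
      by_contra hc
      have : 126 * 126 ≤ deg χ * deg χ := Nat.mul_le_mul (by omega) (by omega)
      omega
    have hcg := hσd χ hχ
    have h10 : deg χ ≠ 10 := by
      intro h10
      have hs : σ χ = -1 := by
        rcases hσ χ hχ with e | e
        · rw [e, h10] at hcg; norm_num at hcg
        · exact e
      have h0 := value_zero_of_no_fixed (χ := χ) hx11 hinv (by rw [← deg_cast, h10]; norm_num) fun i hi hi' => by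
        rw [hσx χ hχ _ (pow_mem hx i) (fun e => by
          have := Nat.le_of_dvd hi (hxo ▸ orderOf_dvd_of_pow_eq_one e)
          omega), hs]
        norm_num
      have h4 := iv_four hG hto χ
      rw [iv_eq (v := 0) (by rw [h0]; simp), h10] at h4
      norm_num at h4
    obtain ⟨h45, h32⟩ := deg_scan _ (mem_divs (hdvd.trans (by norm_num))) hdvd (by omega) h126 h10
    simp only [Finset.mem_insert, Finset.mem_singleton]
    rcases hσ χ hχ with e | e <;> rw [e] at hcg ⊢
    · have := h45 (by omega)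
      simp only [List.mem_cons, List.not_mem_nil, or_false] at this
      omega
    · have := h32 (by omega)
      simp only [List.mem_cons, List.not_mem_nil, or_false] at this
      omega
  -- the degrees
  let Sv : ℤ → Finset (Cfsg.IrrCharacter G) := fun w => S.filter fun χ => σ χ * (deg χ : ℤ) = w
  have hfib : ∀ f : Cfsg.IrrCharacter G → ℤ, ∑ χ ∈ S, f χ =
      ∑ χ ∈ Sv 12, f χ + ∑ χ ∈ Sv (-32), f χ + ∑ χ ∈ Sv 45, f χ + ∑ χ ∈ Sv (-120), f χ := by
    intro f
    rw [← Finset.sum_fiberwise_of_maps_to hdeg]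
    simp [Sv]
    ring
  have hconst : ∀ (w : ℤ) (F : ℤ → ℤ), ∑ χ ∈ Sv w, F (σ χ * (deg χ : ℤ)) = (Sv w).card * F w := by
    intro w F
    rw [Finset.sum_congr rfl (g := fun _ => F w) fun χ hχ => by rw [(Finset.mem_filter.1 hχ).2],
      Finset.sum_const, nsmul_eq_mul]
  have hScard : S.card = 10 := by
    rw [hS, Finset.card_insert_of_notMem hθX, Finset.card_erase_of_mem ht, D.card_X, he]
  have e1 := hfib fun χ => (fun _ => 1) (σ χ * (deg χ : ℤ))
  rw [hconst 12 fun _ => 1, hconst (-32) fun _ => 1, hconst 45 fun _ => 1, hconst (-120) fun _ => 1] at e1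
  simp [hScard] at e1
  have e2 := hfib fun χ => (fun z => z) (σ χ * (deg χ : ℤ))
  rw [hconst 12 fun z => z, hconst (-32) fun z => z, hconst 45 fun z => z, hconst (-120) fun z => z] at e2
  have e2' : ∑ χ ∈ S, σ χ * (deg χ : ℤ) = -1 := by
    have h := hrel 1 (by simp)
    simp only [← deg_cast] at h
    have : ((1 + ∑ χ ∈ S, σ χ * (deg χ : ℤ) : ℤ) : ℂ) = 0 := by push_cast; exact h
    have := Int.cast_eq_zero.1 this
    linarith
  have e3 := hfib fun χ => (fun z => z * z) (σ χ * (deg χ : ℤ))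
  rw [hconst 12 fun z => z * z, hconst (-32) fun z => z * z, hconst 45 fun z => z * z,
    hconst (-120) fun z => z * z] at e3
  have e3' : 1 + ∑ χ ∈ S, σ χ * (deg χ : ℤ) * (σ χ * (deg χ : ℤ)) ≤ 15840 := by
    have h := sum_degree_sq (G := G)
    simp only [← deg_cast] at h
    have h' : ∑ ψ : Cfsg.IrrCharacter G, ((deg ψ : ℤ) * (deg ψ : ℤ)) = 15840 := by
      apply Int.cast_injective (α := ℂ)
      rw [Int.cast_sum, show ((15840 : ℤ) : ℂ) = ((Nat.card G : ℕ) : ℂ) by rw [hcard]; norm_num, ← h]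
      exact Finset.sum_congr rfl fun ψ _ => by push_cast; ring
    rw [← h', ← Finset.add_sum_erase _ _ (Finset.mem_univ (trivIrr G)), deg_trivIrr, Nat.cast_one,
      mul_one, Finset.sum_congr rfl (g := fun χ => (deg χ : ℤ) * (deg χ : ℤ)) fun χ hχ => by
        rcases hσ χ hχ with e | e <;> rw [e] <;> ring]
    exact add_le_add le_rfl (Finset.sum_le_sum_of_subset_of_nonneg
      (fun χ hχ => Finset.mem_erase.2 ⟨hSne χ hχ, Finset.mem_univ χ⟩) fun ψ _ _ => mul_self_nonneg _)
  simp only at e2 e3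
  rw [e2'] at e2
  rw [e3] at e3'
  have c12 : (Sv 12).card = 2 := by omega
  have c45 : (Sv 45).card = 3 := by omega
  have c120 : (Sv (-120)).card = 0 := by omega
  have h12 : ∀ χ ∈ Sv 12, χ ∈ S ∧ σ χ = 1 ∧ deg χ = 12 := fun χ hχ => by
    obtain ⟨h, hz⟩ := Finset.mem_filter.1 hχ
    refine ⟨h, ?_⟩
    rcases hσ χ h with e | e <;> rw [e] at hz <;> exact ⟨by omega, by omega⟩
  have h32 : ∀ χ ∈ Sv (-32), χ ∈ S ∧ σ χ = -1 ∧ deg χ = 32 := fun χ hχ => by
    obtain ⟨h, hz⟩ := Finset.mem_filter.1 hχ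
    refine ⟨h, ?_⟩
    rcases hσ χ h with e | e <;> rw [e] at hz <;> exact ⟨by omega, by omega⟩
  have h45 : ∀ χ ∈ Sv 45, χ ∈ S ∧ σ χ = 1 ∧ deg χ = 45 := fun χ hχ => by
    obtain ⟨h, hz⟩ := Finset.mem_filter.1 hχ
    refine ⟨h, ?_⟩
    rcases hσ χ h with e | e <;> rw [e] at hz <;> exact ⟨by omega, by omega⟩
  -- a central involution of a Sylow two-subgroup
  obtain ⟨z, hzo, h32c⟩ : ∃ z : G, orderOf z = 2 ∧ 32 ∣ cen z := by
    obtain ⟨R⟩ : Nonempty (Sylow 2 G) := inferInstance
    have hR : Nat.card (R : Subgroup G) = 32 := by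
      rw [Basic.card_sylow_eq_pow (a := 5) (m := 495) (by rw [hcard]; norm_num) (by norm_num) R]
      norm_num
    haveI : Nontrivial (R : Subgroup G) :=
      Finite.one_lt_card_iff_nontrivial.1 (by rw [hR]; norm_num)
    haveI := R.2.center_nontrivial
    obtain ⟨⟨c, hc⟩, hco⟩ := exists_prime_orderOf_dvd_card' (G := center (R : Subgroup G)) 2 (by
      obtain ⟨i, hi⟩ := (R.2.to_subgroup (center (R : Subgroup G))).exists_card_eq
      have : 1 < Nat.card (center (R : Subgroup G)) := Finite.one_lt_card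
      rw [hi] at this ⊢
      exact dvd_pow_self 2 (by rintro rfl; simp at this))
    rw [Subgroup.orderOf_mk, ← orderOf_submonoid] at hco
    refine ⟨(c : G), hco, ?_⟩
    rw [← hR]
    exact card_dvd_of_le fun s hs => mem_centralizer_singleton_iff.2
      (congrArg Subtype.val (mem_center_iff.1 hc ⟨s, hs⟩))
  set v := iv z with hvdef
  have hzv : ∀ χ : Cfsg.IrrCharacter G, (χ : G → ℂ) z = (v χ : ℂ) := iv_spec hG hzo
  have hv32 : ∀ χ ∈ Sv (-32), v χ = 0 := fun χ hχ => iv_eq (by
    rw [BlockCharsA.DefectZeroVanish.eq_zero_of_singular Nat.prime_two χ ?_ (by rw [hzo]), Int.cast_zero]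
    have : (Nat.card G).factorization 2 = 5 := by
      rw [hcard, show (15840 : ℕ) = 2 ^ 5 * 495 by norm_num, Nat.factorization_mul (by norm_num) (by norm_num),
        Finsupp.add_apply, Nat.Prime.factorization_pow Nat.prime_two,
        Nat.factorization_eq_zero_of_not_dvd (by norm_num)]
      simp
    rw [this, show Cfsg.charDegree (χ : G → ℂ) = deg χ from rfl, (h32 χ hχ).2.2]
    norm_num)
  -- the counting identity
  set K : Finset G := Finset.univ.filter (IsConj z) with hK
  have hKmem : ∀ u, u ∈ K ↔ IsConj z u := fun u => by simp [hK]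
  have hKinv : ∀ u ∈ K, u * u = 1 := fun u hu => by
    obtain ⟨g, rfl⟩ := isConj_iff.1 ((hKmem u).1 hu)
    rw [conj_mul, ← sq, ← hzo, pow_orderOf_eq_one]; group
  set A : Finset (G × G) := (K ×ˢ K).filter fun p => IsConj (p.1 * p.2) x with hA
  set B : Finset (G × G) := (K ×ˢ K).filter fun p => p.1 * p.2 = x with hB
  have hcx : Nat.card (centralizer ({x} : Set G)) = 11 := by rw [hCx, hC]
  have hAB : A.card = 1440 * B.card := by
    set L : Finset G := Finset.univ.filter (IsConj x) with hL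
    have hLc : L.card = 1440 := by
      have h := Basic.card_centralizer_mul_card_class x
      have hc : Nat.card {y : G // IsConj x y} = L.card := by
        rw [← Nat.card_eq_finsetCard]
        exact Nat.card_congr (Equiv.subtypeEquivRight fun y => by simp [hL])
      rw [hcx, hcard, hc] at h
      omega
    rw [Finset.card_eq_sum_card_fiberwise (f := fun p : G × G => p.1 * p.2) (t := L)
      fun p hp => Finset.mem_filter.2 ⟨Finset.mem_univ _, (Finset.mem_filter.1 hp).2.symm⟩, ← hLc,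
      ← smul_eq_mul, ← Finset.sum_const]
    refine Finset.sum_congr rfl fun y hy => ?_
    obtain ⟨g, hg⟩ := isConj_iff.1 (Finset.mem_filter.1 hy).2
    refine Finset.card_nbij' (fun p => (g⁻¹ * p.1 * g, g⁻¹ * p.2 * g))
      (fun p => (g * p.1 * g⁻¹, g * p.2 * g⁻¹)) ?_ ?_ ?_ ?_
    · intro p hp
      simp only [Finset.mem_coe, Finset.mem_filter, hA, hB, Finset.mem_product] at hp ⊢
      obtain ⟨⟨⟨h1, h2⟩, -⟩, h3⟩ := hp
      refine ⟨⟨(hKmem _).2 (((hKmem _).1 h1).trans (isConj_iff.2 ⟨g⁻¹, by group⟩)),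
        (hKmem _).2 (((hKmem _).1 h2).trans (isConj_iff.2 ⟨g⁻¹, by group⟩))⟩, ?_⟩
      calc g⁻¹ * p.1 * g * (g⁻¹ * p.2 * g) = g⁻¹ * (p.1 * p.2) * g := by group
        _ = x := by rw [h3, ← hg]; group
    · intro p hp
      simp only [Finset.mem_coe, Finset.mem_filter, hA, hB, Finset.mem_product] at hp ⊢
      obtain ⟨⟨h1, h2⟩, h3⟩ := hp
      have he' : g * p.1 * g⁻¹ * (g * p.2 * g⁻¹) = y := by
        rw [← hg, ← h3]; group
      refine ⟨⟨⟨(hKmem _).2 (((hKmem _).1 h1).trans (isConj_iff.2 ⟨g, rfl⟩)),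
        (hKmem _).2 (((hKmem _).1 h2).trans (isConj_iff.2 ⟨g, rfl⟩))⟩, ?_⟩, he'⟩
      rw [he', ← hg]; exact isConj_iff.2 ⟨g⁻¹, by group⟩
    · intro p _; simp [mul_assoc]
    · intro p _; simp [mul_assoc]
  have hsums : (K.card : ℂ) ^ 2 * (1 + ∑ χ ∈ S, (v χ : ℂ) ^ 2 * (σ χ : ℂ) / (deg χ : ℂ)) =
      11 * (A.card : ℂ) := by
    have h1 : ∑ χ : Cfsg.IrrCharacter G, (∑ u ∈ K, ∑ w ∈ K, (χ : G → ℂ) (u * w)) * conj ((χ : G → ℂ) x) =
        11 * (A.card : ℂ) := by
      simp only [Finset.sum_mul]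
      rw [Finset.sum_comm, Finset.sum_congr rfl fun u _ => Finset.sum_comm,
        ← Finset.sum_product' K K fun u w => ∑ χ : Cfsg.IrrCharacter G, (χ : G → ℂ) (u * w) * conj ((χ : G → ℂ) x)]
      simp only [second_orthogonality, hcx]
      rw [← Finset.sum_filter, ← hA, Finset.sum_const, nsmul_eq_mul]
      push_cast; ring
    rw [← h1, ← Finset.sum_subset (Finset.subset_univ (insert (trivIrr G) S)) fun χ _ hn => by
      rw [D.eq_zero_of_notMem hC (fun hb => hn ((hSblock χ).1 hb)) hx hx1, map_zero, mul_zero],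
      Finset.sum_insert fun h => hSne _ h rfl, mul_add, Finset.mul_sum]
    have hval : ∀ χ : Cfsg.IrrCharacter G, (deg χ : ℂ) * (∑ u ∈ K, ∑ w ∈ K, (χ : G → ℂ) (u * w)) =
        ((K.card : ℂ) * (v χ : ℂ)) ^ 2 := fun χ => by
      rw [deg_cast, ← hzv]
      refine CharTheory.DihedralEight.sum_mul_involutions χ.2 K z (fun u hu a => ?_) fun u hu => ?_
      · exact (hKmem _).2 (((hKmem u).1 hu).trans (isConj_iff.2 ⟨a, rfl⟩))
      · obtain ⟨g, rfl⟩ := isConj_iff.1 ((hKmem u).1 hu)
        exact irr_isClassFunction χ z g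
    congr 1
    · have := hval (trivIrr G)
      rw [deg_trivIrr, Nat.cast_one, one_mul, hvdef, iv_triv, Int.cast_one, mul_one] at this
      rw [this]; simp [trivIrr_coe]
    · refine Finset.sum_congr rfl fun χ hχ => ?_
      have hd0 : (deg χ : ℂ) ≠ 0 := Nat.cast_ne_zero.2 (charDegree_pos χ).ne'
      rw [hσx χ hχ x hx hx1, map_intCast]
      have := hval χ
      field_simp
      linear_combination (σ χ : ℂ) * (-this)
  -- collect
  set a := ∑ χ ∈ Sv 12, v χ * v χ with ha
  set b := ∑ χ ∈ Sv 45, v χ * v χ with hb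
  have hL : (180 : ℂ) * (1 + ∑ χ ∈ S, (v χ : ℂ) ^ 2 * (σ χ : ℂ) / (deg χ : ℂ)) =
      ((180 + 15 * a + 4 * b : ℤ) : ℂ) := by
    rw [← Finset.sum_fiberwise_of_maps_to hdeg]
    rw [Finset.sum_insert (by decide), Finset.sum_insert (by decide), Finset.sum_insert (by decide),
      Finset.sum_singleton]
    change (180 : ℂ) * (1 + (∑ χ ∈ Sv 12, _ + (∑ χ ∈ Sv (-32), _ + (∑ χ ∈ Sv 45, _ + ∑ χ ∈ Sv (-120), _)))) = _
    rw [Finset.card_eq_zero.1 c120, Finset.sum_empty, Finset.sum_eq_zero (s := Sv (-32)) fun χ hχ => by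
      rw [hv32 χ hχ]; simp, ha, hb]
    rw [Finset.sum_congr (s₁ := Sv 12) rfl (g := fun χ => ((v χ * v χ : ℤ) : ℂ) * (1 / 12)) fun χ hχ => by
        rw [(h12 χ hχ).2.1, (h12 χ hχ).2.2]; push_cast; ring,
      Finset.sum_congr (s₁ := Sv 45) rfl (g := fun χ => ((v χ * v χ : ℤ) : ℂ) * (1 / 45)) fun χ hχ => by
        rw [(h45 χ hχ).2.1, (h45 χ hχ).2.2]; push_cast; ring,
      ← Finset.sum_mul, ← Finset.sum_mul, ← Int.cast_sum, ← Int.cast_sum]
    push_cast; ring
  have hmain : ((K.card : ℤ) * K.card) * (180 + 15 * a + 4 * b) = 180 * 11 * 1440 * B.card := by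
    apply Int.cast_injective (α := ℂ)
    rw [Int.cast_mul, ← hL]
    have h : (A.card : ℂ) = 1440 * (B.card : ℂ) := by exact_mod_cast hAB
    push_cast
    linear_combination (180 : ℂ) * hsums + (180 * 11 : ℂ) * h
  have ha0 : 0 ≤ a := Finset.sum_nonneg fun χ _ => mul_self_nonneg _
  have hb0 : 0 ≤ b := Finset.sum_nonneg fun χ _ => mul_self_nonneg _
  have hK0 : 0 < K.card := Finset.card_pos.2 ⟨z, (hKmem z).2 (IsConj.refl z)⟩
  have hKz : cen z * K.card = 15840 := by
    have h := Basic.card_centralizer_mul_card_class z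
    rw [hcard, Nat.card_eq_fintype_card (α := {y : G // IsConj z y}), Fintype.card_subtype] at h
    exact h
  -- eleven pairs
  have hB0 : B.Nonempty := by
    rw [Finset.nonempty_iff_ne_empty]
    intro h
    rw [h, Finset.card_empty, Nat.cast_zero, mul_zero] at hmain
    have : (0 : ℤ) < (K.card : ℤ) * K.card := by exact_mod_cast Nat.mul_pos hK0 hK0
    nlinarith
  obtain ⟨⟨u, w⟩, huw⟩ := hB0
  simp only [hB, Finset.mem_filter, Finset.mem_product] at huw
  obtain ⟨⟨hu, hw⟩, huwx⟩ := huw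
  have hmemB : ∀ p ∈ B, p.1 * x * p.1⁻¹ = x⁻¹ ∧ p.2 = p.1 * x ∧ p.1 * p.1 = 1 := by
    intro p hp
    simp only [hB, Finset.mem_filter, Finset.mem_product] at hp
    obtain ⟨⟨h1, h2⟩, h3⟩ := hp
    have i1 := hKinv _ h1
    have i2 := hKinv _ h2
    have j1 : p.1⁻¹ = p.1 := inv_eq_of_mul_eq_one_right i1
    have j2 : p.2⁻¹ = p.2 := inv_eq_of_mul_eq_one_right i2
    refine ⟨?_, by rw [← h3, ← mul_assoc, i1, one_mul], i1⟩
    rw [← h3, mul_inv_rev, j1, j2, ← mul_assoc, i1, one_mul]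
  have hB11 : B.card = 11 := by
    refine le_antisymm ?_ ?_
    · rw [← hcx, Nat.card_eq_fintype_card, Fintype.card_subtype]
      refine Finset.card_le_card_of_injOn (fun p => u * p.1) (fun p hp => ?_) fun p hp q hq h => ?_
      · obtain ⟨e1, -, -⟩ := hmemB p hp
        obtain ⟨e0, -, -⟩ := hmemB (u, w) (by simp [hB, hu, hw, huwx])
        simp only [Finset.mem_coe, Finset.mem_filter, Finset.mem_univ, true_and, mem_centralizer_singleton_iff]
        have e1' : p.1 * x = x⁻¹ * p.1 := mul_inv_eq_iff_eq_mul.1 e1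
        have e0' : u * x⁻¹ = x * u := by
          have := congrArg Inv.inv e0
          rw [inv_inv, conj_inv] at this
          exact mul_inv_eq_iff_eq_mul.1 this
        calc u * p.1 * x = (u * x⁻¹) * p.1 := by rw [mul_assoc, e1', mul_assoc]
          _ = x * (u * p.1) := by rw [e0', mul_assoc]
      · obtain ⟨-, e2, -⟩ := hmemB p hp
        obtain ⟨-, e2', -⟩ := hmemB q hq
        exact Prod.ext (mul_left_cancel h) (by rw [e2, e2', mul_left_cancel h])
    · obtain ⟨e0, e2, -⟩ := hmemB (u, w) (by simp [hB, hu, hw, huwx])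
      have hmemK : ∀ j : ℕ, u * x ^ j ∈ K := by
        intro j
        refine (hKmem _).2 (((hKmem u).1 hu).trans (isConj_iff.2 ⟨(x ^ (6 * j))⁻¹, ?_⟩))
        have hux : u * x ^ (6 * j) * u⁻¹ = (x ^ (6 * j))⁻¹ := by rw [← conj_pow, e0, inv_pow]
        have h6 : (x ^ (6 * j))⁻¹ * u = u * x ^ (6 * j) := by rw [← hux]; group
        rw [h6, inv_inv, mul_assoc, ← pow_add, show 6 * j + 6 * j = 11 * j + j by ring, pow_add,
          pow_mul, hx11, one_pow, one_mul]
      refine le_trans (le_of_eq (Finset.card_range 11).symm) (Finset.card_le_card_of_injOn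
        (fun j => (u * x ^ j, u * x ^ (j + 1))) (fun j _ => ?_) fun i hi j hj h => ?_)
      · simp only [Finset.mem_coe, hB, Finset.mem_filter, Finset.mem_product]
        refine ⟨⟨hmemK j, hmemK (j + 1)⟩, ?_⟩
        have hux : u * x ^ j * u = (x ^ j)⁻¹ := by
          have : u * x ^ j * u⁻¹ = (x ^ j)⁻¹ := by rw [← conj_pow, e0, inv_pow]
          rwa [inv_eq_of_mul_eq_one_right (hKinv u hu)] at this
        calc u * x ^ j * (u * x ^ (j + 1)) = (u * x ^ j * u) * x ^ (j + 1) := by group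
          _ = x := by rw [hux, pow_succ, ← mul_assoc, inv_mul_cancel, one_mul]
      · have h' : x ^ i = x ^ j := mul_left_cancel (congrArg Prod.fst h)
        rw [pow_eq_pow_iff_modEq, hxo, Nat.ModEq] at h'
        simp only [Finset.coe_range, Set.mem_Iio] at hi hj
        omega
  -- the centralizer
  rw [hB11] at hmain
  set C := cen z with hCdef
  have hC2 : (C : ℤ) * C = 1440 + 120 * a + 32 * b := by
    have h : (C : ℤ) * K.card = 15840 := by exact_mod_cast hKz
    have h2 : ((C : ℤ) * K.card) * ((C : ℤ) * K.card) * (180 + 15 * a + 4 * b) =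
        (C : ℤ) * C * (180 * 11 * 1440 * 11) := by
      linear_combination ((C : ℤ) * C) * hmain
    rw [h] at h2
    nlinarith
  have hnorm : 1 + a + b ≤ (C : ℤ) := by
    have h := iv_sq_le hG hzo (insert (trivIrr G) (Sv 12 ∪ Sv 45))
    rw [Finset.sum_insert (fun h => by
      rcases Finset.mem_union.1 h with h | h <;> exact hSne _ (Finset.mem_filter.1 h).1 rfl),
      Finset.sum_union (Finset.disjoint_left.2 fun χ h1 h2 => by
        have := (Finset.mem_filter.1 h1).2
        have := (Finset.mem_filter.1 h2).2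
        omega), iv_triv] at h
    simpa [ha, hb, hvdef, hCdef, add_assoc] using h
  have hC96 : C = 96 := by
    have hle : (C : ℤ) ≤ 131 := by nlinarith
    rcases cen_scan C (mem_divs ((hcard ▸ card_subgroup_dvd_card _).trans (by norm_num)))
      (hcard ▸ card_subgroup_dvd_card _) h32c (by exact_mod_cast hle) with e | e
    · exfalso; rw [e] at hC2; norm_num at hC2; linarith
    · exact e
  rw [hC96] at hC2 hnorm
  push_cast at hC2 hnorm
  -- the values
  have hrel2 : (1 : ℤ) + ∑ χ ∈ Sv 12, v χ + ∑ χ ∈ Sv 45, v χ = 0 := by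
    have h := hrel z (by rw [hzo]; norm_num)
    have h' : 1 + ∑ χ ∈ S, σ χ * v χ = 0 := by
      apply Int.cast_injective (α := ℂ)
      push_cast
      rw [← h]
      congr 1
      exact Finset.sum_congr rfl fun χ _ => by rw [hzv]
    rw [hfib, Finset.card_eq_zero.1 c120, Finset.sum_empty, add_zero,
      Finset.sum_eq_zero (s := Sv (-32)) (fun χ hχ => by rw [hv32 χ hχ, mul_zero]), add_zero,
      Finset.sum_congr (s₁ := Sv 12) rfl (g := v) (fun χ hχ => by rw [(h12 χ hχ).2.1, one_mul]),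
      Finset.sum_congr (s₁ := Sv 45) rfl (g := v) (fun χ hχ => by rw [(h45 χ hχ).2.1, one_mul])] at h'
    linarith
  obtain ⟨χ₁, χ₂, hne, h2set⟩ := Finset.card_eq_two.1 c12
  obtain ⟨ψ₁, ψ₂, ψ₃, n12, n13, n23, h3set⟩ := Finset.card_eq_three.1 c45
  have q1 := iv_four hG hzo χ₁
  have q2 := iv_four hG hzo χ₂
  have r1 := iv_four hG hzo ψ₁
  have r2 := iv_four hG hzo ψ₂
  have r3 := iv_four hG hzo ψ₃
  rw [(h12 χ₁ (by simp [h2set])).2.2] at q1
  rw [(h12 χ₂ (by simp [h2set])).2.2] at q2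
  rw [(h45 ψ₁ (by simp [h3set])).2.2] at r1
  rw [(h45 ψ₂ (by simp [h3set])).2.2] at r2
  rw [(h45 ψ₃ (by simp [h3set])).2.2] at r3
  rw [ha, hb, h2set, h3set, Finset.sum_pair hne, Finset.sum_insert (by simp [n12, n13]),
    Finset.sum_pair n23] at hC2 hnorm
  rw [h2set, h3set, Finset.sum_pair hne, Finset.sum_insert (by simp [n12, n13]), Finset.sum_pair n23] at hrel2
  obtain ⟨i, hi⟩ : (4 : ℤ) ∣ iv z χ₁ := by push_cast at q1; omega
  obtain ⟨j, hj⟩ : (4 : ℤ) ∣ iv z χ₂ := by push_cast at q2; omega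
  simp only [hvdef, hi, hj] at *
  push_cast at r1 r2 r3
  exact ten_arith (by omega) (by omega) (by omega) hrel2 hnorm hC2

end Cfsg.Agent.M12Order.Graph
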