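import Cfsg.Agent.Lib.M12Order.Graph.Local
import Cfsg.Agent.Lib.M12Order.Graph.One
import Cfsg.Agent.Lib.SmallSimple.DegreeGraph6000.Orders

/-!
# The orders of simple sections with an element of order eleven
-/

set_option autoImplicit false
set_option linter.style.haveILetI false
set_option linter.unusedSectionVars false

namespace Cfsg.Agent.M12Order.Graph

open Subgroup
open Cfsg.Agent.Characters Cfsg.Agent.Blocks Cfsg.Agent.PrimeBlock
open Cfsg.Agent.SmallSimple

universe u

theorem cofactors : ∀ d ∈ divs, 11 ∣ d → ¬ d < 6000 → d ≠ 7920 → d ≠ 95040 →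
    d / 11 ∈ [576, 864, 960, 1080, 1440, 1728, 2160, 2880, 4320] ∧ d ≤ 47520 ∧ d = 11 * (d / 11) := by
  decide +kernel

theorem small_orders : ∀ d ∈ DegreeGraph6000.ord, d ∣ 95040 → 11 ∣ d → d = 660 := by decide +kernel

theorem sylow_options : ∀ m ∈ [576, 864, 960, 1080, 1440, 1728, 2160, 2880, 4320],
    ∀ n ∈ Nat.divisors m, n % 11 = 1 → 1 < n → ∀ e ∈ [5, 10], m / n % e = 0 →
      n = 12 ∨ (n = 144 ∧ (e, m / n / e) ∈ [(5, 2), (10, 1), (5, 3), (5, 4), (10, 2), (5, 6), (10, 3)]) := by
  decide +kernel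

/-- The orders. -/
theorem card_cases {G : Type u} [Group G] [Finite G] [IsSimpleGroup G] (hG : ¬ IsMulCommutative G)
    (h11 : 11 ∣ Nat.card G) (hd : Nat.card G ∣ 95040) :
    Nat.card G = 660 ∨ Nat.card G = 7920 ∨ Nat.card G = 95040 := by
  classical
  by_cases h6 : Nat.card G < 6000
  · exact Or.inl (small_orders _ (DegreeGraph6000.mem_ord hG h6) hd h11)
  by_contra hno
  push Not at hno
  obtain ⟨hm, hle, heq⟩ := cofactors _ (mem_divs hd) h11 h6 hno.2.1 hno.2.2
  set m := Nat.card G / 11 with hmdef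
  have hm11 : ¬ 11 ∣ m := by
    have : ∀ m ∈ [576, 864, 960, 1080, 1440, 1728, 2160, 2880, 4320], ¬ 11 ∣ m := by decide
    exact this m hm
  obtain ⟨hnd, hnm, hn1, -⟩ := Basic.sylow_count (p := 11) hG h11 (a := 1) (m := m)
    (by rw [pow_one]; exact heq) hm11
  obtain ⟨P⟩ : Nonempty (Sylow 11 G) := inferInstance
  have hP : Nat.card (P : Subgroup G) = 11 := by
    rw [Basic.card_sylow_eq_pow (a := 1) (m := m) (by rw [pow_one]; exact heq) hm11 P, pow_one]
  obtain ⟨D, ht, hts⟩ := exists_pblock' hG (by norm_num) P hP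
  set C := centralizer ((P : Subgroup G) : Set G) with hCdef
  set N := normalizer ((P : Subgroup G) : Set G) with hNdef
  haveI : IsCyclic (P : Subgroup G) := isCyclic_of_prime_card hP
  obtain ⟨k, hk⟩ : 11 ∣ Nat.card C := hP ▸ card_dvd_of_le (le_centralizer _)
  have hNC : Nat.card N = 11 * k * D.e := by
    have := relIndex_mul_relIndex ⊥ C N bot_le (centralizer_le_normalizer _)
    rw [relIndex_bot_left, relIndex_bot_left, D.he, hk] at this
    omega
  have htot := Basic.card_normalizer_mul P
  rw [← hNdef, hNC] at htot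
  set n := Nat.card (Sylow 11 G) with hndef
  have hmn : m = n * (D.e * k) := by
    refine Nat.eq_of_mul_eq_mul_left (show 0 < 11 by norm_num) ?_
    rw [← heq, ← htot]; ring
  have he : D.e ∈ [5, 10] := by
    have he1 : D.e ≠ 1 := fun h1 => Basic.not_normalizer_le_centralizer hG h11 P
      (relIndex_eq_one.1 (D.he.trans h1))
    have he2 := e_ne_two hG hd hle D ht hts
    have : ∀ e ∈ Finset.range 11, e ∣ 10 → e ≠ 1 → e ≠ 2 → e ∈ [5, 10] := by decide
    exact this _ (Finset.mem_range.2 (by have := Nat.le_of_dvd (by norm_num) D.e_dvd; omega))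
      D.e_dvd he1 he2
  have hn0 : 0 < n := by omega
  have hmdiv : m / n = D.e * k := by rw [hmn, Nat.mul_div_cancel_left _ hn0]
  have hm0 : m ≠ 0 := by rintro h; rw [h] at hm11; exact hm11 (dvd_zero 11)
  rcases sylow_options m hm n (Nat.mem_divisors.2 ⟨hnd, hm0⟩) hnm hn1 D.e he
      (by rw [hmdiv]; exact Nat.mul_mod_right _ _) with h12 | ⟨h144, hek⟩
  · -- twelve Sylow subgroups
    have hNt : N ≠ ⊤ := Basic.normalizer_ne_top hG h11 P
    have hidx : N.index = 12 := (P.card_eq_index_normalizer.symm).trans h12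
    obtain ⟨x, hx1, hx⟩ := D.exists_ne_one
    have hk11 : ∀ q, q.Prime → q ∣ k → q = 11 := fun q hq hqk => by
      by_contra hne
      haveI := Fact.mk hq
      obtain ⟨⟨z, hz⟩, hzo⟩ := exists_prime_orderOf_dvd_card' (G := C) q (hk ▸ hqk.mul_left 11)
      rw [Subgroup.orderOf_mk] at hzo
      have := Centralize.eq_one_of_index_le hG (p := 11) (by norm_num) N hNt (by omega)
        (D.orderOf_eq hx hx1) (mem_centralizer_iff.1 hz x hx)
        (by rw [hzo]; exact (Nat.coprime_primes hq (by norm_num)).2 hne)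
      rw [this, orderOf_one] at hzo
      exact hq.ne_one hzo.symm
    have hk1 : k = 1 := by
      by_contra hne
      have hq := Nat.minFac_prime hne
      have h := hk11 _ hq (Nat.minFac_dvd k)
      exact hm11 (hmn ▸ ((h ▸ Nat.minFac_dvd k).mul_left D.e).mul_left n)
    rw [h12, hk1, mul_one] at hmn
    have : D.e ≤ 10 := Nat.le_of_dvd (by norm_num) D.e_dvd
    omega
  · rw [hmdiv, Nat.mul_div_cancel_left _ D.e_pos] at hek
    have hcard : Nat.card G = 11 * (144 * (D.e * k)) := by rw [← h144, ← hmn]; exact heq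
    simp only [List.mem_cons, Prod.mk.injEq, List.not_mem_nil, or_false] at hek
    rcases hek with h | h | h | h | h | h | h <;> obtain ⟨e0, k0⟩ := h <;> rw [e0, k0] at hNC hcard <;>
      rw [k0] at hk <;> norm_num at hNC hcard hk
    · exact no_kernel hG h144 hP (q := 2) (a := 1) (j := 1) (by norm_num) one_ne_zero one_pos (by norm_num)
        (by norm_num) (by rw [hk]; norm_num) (by rw [hcard]; norm_num) (by rw [hNC]; norm_num)
    · exact no_ten hG hcard D ht hts e0 hk
    · exact no_kernel hG h144 hP (q := 3) (a := 1) (j := 1) (by norm_num) one_ne_zero one_pos (by norm_num)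
        (by norm_num) (by rw [hk]; norm_num) (by rw [hcard]; norm_num) (by rw [hNC]; norm_num)
    · exact no_kernel hG h144 hP (q := 2) (a := 2) (j := 1) (by norm_num) two_ne_zero one_pos (by norm_num)
        (by norm_num) (by rw [hk]; norm_num) (by rw [hcard]; norm_num) (by rw [hNC]; norm_num)
    · exact no_two_kernel hG D ht h144 e0 hk hcard
    · exact no_kernel hG h144 hP (q := 3) (a := 1) (j := 2) (by norm_num) one_ne_zero two_pos (by norm_num)
        (by norm_num) (by rw [hk]; norm_num) (by rw [hcard]; norm_num) (by rw [hNC]; norm_num)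
    · exact no_kernel hG h144 hP (q := 3) (a := 1) (j := 1) (by norm_num) one_ne_zero one_pos (by norm_num)
        (by norm_num) (by rw [hk]; norm_num) (by rw [hcard]; norm_num) (by rw [hNC]; norm_num)

end Cfsg.Agent.M12Order.Graph
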