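import Cfsg.Agent.Lib.M12Order.Basic
import Cfsg.Agent.Lib.SmallSimple.FixedPoints
import Cfsg.Agent.Lib.PrimeBlock.SubTwo.Main

/-!
# Simple groups of order dividing 95040 with a Sylow 11-subgroup: local facts
-/

set_option autoImplicit false
set_option linter.style.haveILetI false
set_option linter.unusedSectionVars false

namespace Cfsg.Agent.M12Order.Graph

open Subgroup
open Cfsg.Agent.Characters Cfsg.Agent.Blocks Cfsg.Agent.PrimeBlock
open Cfsg.Agent.SmallSimple

universe u

/-- A number `d` divides the class size times an integral value. -/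
theorem deg_dvd_cls' {G : Type u} [Group G] [Finite G] (χ : Cfsg.IrrCharacter G) {g : G} {v : ℤ}
    (hv : (χ : G → ℂ) g = (v : ℂ)) : (deg χ : ℤ) ∣ (cls g : ℤ) * v := by
  obtain ⟨n, ρ, hρ, hchar⟩ := χ.2
  haveI := hρ
  have h := class_central_char_isIntegral ρ g
  have hn : (Module.finrank ℂ (Fin n → ℂ) : ℂ) = (deg χ : ℂ) := by
    rw [deg_cast, ← hchar, ρ.char_one]
  rw [hchar, hv, hn] at h
  obtain ⟨c, hc⟩ := exists_int_of_isIntegral_ratCast
    (q := ((((cls g : ℤ) * v : ℤ) : ℚ) / ((deg χ : ℕ) : ℚ))) (by push_cast; exact h)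
  refine ⟨c, ?_⟩
  have hd : ((deg χ : ℕ) : ℚ) ≠ 0 := Nat.cast_ne_zero.2 (charDegree_pos χ).ne'
  replace hc := Rat.cast_injective (hc.trans (Rat.cast_intCast c).symm)
  rw [div_eq_iff hd] at hc
  have : (((cls g : ℤ) * v : ℤ) : ℚ) = (((deg χ : ℕ) : ℤ) * c : ℤ) := by
    push_cast at hc ⊢; linear_combination hc
  exact_mod_cast this

theorem two_scan : ∀ d ∈ divs, ∀ f ∈ divs, d < 218 → f < 218 → 1 < d → 1 < f →
    ((d % 11 = 1 ∧ f = d + 1) ∨ (d % 11 = 10 ∧ f + 1 = d)) → f = 9 := by
  decide +kernel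

theorem kernel_scan : ∀ d ∈ [12, 32, 45, 120, 144], ∀ i ∈ List.range 29, ∀ s ∈ [(1 : ℤ), -1],
    ∀ v, v = (i : ℤ) - 14 → ((s - (d : ℕ)) % 11 = 0 ∧ ((d : ℤ) - v) % 4 = 0 ∧ (s - v) % 11 = 0 ∧
      (-(d : ℤ) < v ∧ v < d) ∧ (144 * v) % (d : ℤ) = 0) → v * v = 144 := by
  intro d hd i hi s hs v hv
  subst hv
  revert d i s
  decide +kernel

theorem index_scan : ∀ k ∈ Nat.divisors 144, k % 11 = 1 → k = 1 ∨ k = 12 ∨ k = 144 := by
  decide +kernel

variable {G : Type u} [Group G] [Finite G] [IsSimpleGroup G] (hG : ¬ IsMulCommutative G)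

include hG

/-- Two normalizer classes are impossible. -/
theorem e_ne_two (hd : Nat.card G ∣ 95040) (hlt : Nat.card G ≤ 47520) {P : Sylow 11 G}
    (D : PBlock P) (ht : trivIrr G ∈ D.X) (hts : D.sgn (trivIrr G) = 1) : D.e ≠ 2 := by
  classical
  intro he
  obtain ⟨θ, hθ⟩ := D.Y_nonempty
  have hθ1 : θ ≠ trivIrr G := fun h => Finset.disjoint_left.1 D.disj ht (h ▸ hθ)
  obtain ⟨χ, hχ⟩ := Finset.card_eq_one.1 (show (D.X.erase (trivIrr G)).card = 1 by
    rw [Finset.card_erase_of_mem ht, D.card_X, he])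
  obtain ⟨hne, hX⟩ := Finset.mem_erase.1 (hχ ▸ Finset.mem_singleton_self χ)
  have hrel : D.ε * (deg θ : ℤ) = 1 + D.sgn χ * (deg χ : ℤ) := by
    rw [D.rel_one hθ, ← Finset.add_sum_erase _ _ ht, hχ, Finset.sum_singleton, hts, deg_trivIrr]
    simp
  have hmem : ∀ ψ : Cfsg.IrrCharacter G, ψ ≠ trivIrr G →
      deg ψ ∈ divs ∧ deg ψ < 218 ∧ 1 < deg ψ := by
    intro ψ hψ
    have h1 := deg_ne_one hG hψ
    have h0 : 0 < deg ψ := charDegree_pos ψ
    refine ⟨mem_divs ((char_degree_dvd_card ψ).trans hd), ?_, by omega⟩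
    have h := deg_sq_lt hψ
    by_contra hc
    have : 218 * 218 ≤ deg ψ * deg ψ := Nat.mul_le_mul (by omega) (by omega)
    omega
  obtain ⟨a1, a2, a3⟩ := hmem χ hne
  obtain ⟨b1, b2, b3⟩ := hmem θ hθ1
  have hm := Int.modEq_iff_dvd.1 (D.deg_X χ hX)
  push_cast at hm
  have h9 : deg θ = 9 := by
    refine two_scan _ a1 _ b1 a2 b2 a3 b3 ?_
    rcases D.sgn_eq χ hX with hs | hs <;> rcases D.ε_eq with hε | hε <;>
      rw [hs] at hm hrel <;> rw [hε] at hrel <;> omega
  have hfaith : ∀ a, (θ : G → ℂ) a = (θ : G → ℂ) 1 → a = 1 := fun a ha =>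
    eq_one_of_norm_eq hG hθ1 (by rw [ha])
  have hnn : ¬ (P : Subgroup G).Normal :=
    Basic.sylow_not_normal hG (D.card_P ▸ card_subgroup_dvd_card (P : Subgroup G)) P
  obtain ⟨a, -, -, -, ha, -, -⟩ := SubTwo.main 11 (by norm_num) P D.card_P hnn θ hfaith
    (by rw [← deg_cast, h9])
  have ha' : 2 ^ a = 10 := by omega
  rcases a with _ | a
  · norm_num at ha'
  · have h5 : 2 ^ a = 5 := by rw [pow_succ] at ha'; omega
    rcases a with _ | a
    · norm_num at h5
    · rw [pow_succ] at h5; omega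

/-- With 144 Sylow subgroups a normal subgroup of the normalizer inside the centralizer has the
same normalizer. -/
theorem normalizer_eq (P : Sylow 11 G) (hP : Nat.card (P : Subgroup G) = 11) (hn : Nat.card (Sylow 11 G) = 144) (U : Subgroup G)
    (hU : U ≠ ⊥) (hUC : U ≤ centralizer ((P : Subgroup G) : Set G))
    (h11 : Nat.Coprime (Nat.card U) 11)
    (hN : normalizer ((P : Subgroup G) : Set G) ≤ normalizer (U : Set G)) :
    normalizer (U : Set G) = normalizer ((P : Subgroup G) : Set G) := by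
  set N := normalizer ((P : Subgroup G) : Set G)
  set H := normalizer (U : Set G)
  have hPH : (P : Subgroup G) ≤ H := le_normalizer.trans hN
  have hmod := FixedPoints.relIndex_normalizer_mod P hPH
  have hmul : N.relIndex H * H.index = 144 := by
    rw [relIndex_mul_index hN]; exact (P.card_eq_index_normalizer.symm).trans hn
  rcases index_scan _ (Nat.mem_divisors.2 ⟨⟨_, hmul.symm⟩, by norm_num⟩) hmod with h | h | h
  · exact le_antisymm (relIndex_eq_one.1 h) hN
  · exfalso
    obtain ⟨u, hu, hu1⟩ : ∃ u ∈ U, u ≠ 1 := by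
      obtain ⟨⟨u, hu⟩, hne⟩ := ne_bot_iff_exists_ne_one.1 hU
      exact ⟨u, hu, fun e => hne (Subtype.ext e)⟩
    obtain ⟨x, hx⟩ := exists_prime_orderOf_dvd_card' (G := (P : Subgroup G)) 11 (by rw [hP])
    have hidx : H.index = 12 := by
      have h' : N.relIndex H = 12 := h
      rw [h'] at hmul; omega
    have hHt : H ≠ ⊤ := fun e => by rw [e, index_top] at hidx; norm_num at hidx
    refine hu1 (Centralize.eq_one_of_index_le hG (p := 11) (by norm_num) H hHt (by omega)
      (x := (x : G)) (by rw [orderOf_coe]; exact hx) ?_ ?_)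
    · exact mem_centralizer_iff.1 (hUC hu) (x : G) x.2
    · exact Nat.Coprime.coprime_dvd_left (orderOf_mk u hu ▸ orderOf_dvd_natCard _) h11
  · exfalso
    rw [h] at hmul
    have hH : H = ⊤ := index_eq_one.1 (by omega)
    have : U.Normal := normalizer_eq_top_iff.1 hH
    rcases this.eq_bot_or_eq_top with e | e
    · exact hU e
    · apply Basic.sylow_ne_bot (p := 11) (P := P) ?_
      · rw [eq_bot_iff]
        intro y hy
        have hz : y ∈ center G := mem_center_iff.2 fun g =>
          (mem_centralizer_iff.1 (hUC (e ▸ mem_top g)) y hy).symm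
        rwa [Basic.center_eq_bot hG] at hz
      · exact hP ▸ card_subgroup_dvd_card (P : Subgroup G)

/-- A Sylow subgroup of the centralizer has the normalizer of `P` as its normalizer. -/
theorem exists_kernel {P : Sylow 11 G} (hn : Nat.card (Sylow 11 G) = 144) (hP : Nat.card (P : Subgroup G) = 11)
    {q : ℕ} [Fact q.Prime] (hq : q ≠ 11) {a j : ℕ} (ha : a ≠ 0) (hj : 0 < j) (hjq : j ≤ q) (hqj : ¬ q ∣ j)
    (hC : Nat.card (centralizer ((P : Subgroup G) : Set G)) = 11 * (q ^ a * j)) :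
    ∃ U : Subgroup G, Nat.card U = q ^ a ∧ U ≤ centralizer ((P : Subgroup G) : Set G) ∧
      normalizer (U : Set G) = normalizer ((P : Subgroup G) : Set G) := by
  have hqp : q.Prime := Fact.out
  have hcop : Nat.Coprime q 11 := (Nat.coprime_primes hqp (by norm_num)).2 hq
  set C := centralizer ((P : Subgroup G) : Set G) with hCdef
  obtain ⟨Q⟩ : Nonempty (Sylow q C) := inferInstance
  have hQ : Nat.card (Q : Subgroup C) = q ^ a := Basic.card_sylow_eq_pow (m := 11 * j) (by rw [hC]; ring)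
    (fun h => ((Nat.Prime.dvd_mul hqp).1 h).elim
      (fun h => hq ((Nat.prime_dvd_prime_iff_eq hqp (by norm_num)).1 h)) hqj) Q
  haveI : IsCyclic (P : Subgroup G) := isCyclic_of_prime_card hP
  have hPC : (P : Subgroup G) ≤ C := le_centralizer _
  have hone : Nat.card (Sylow q C) = 1 := by
    have hPN : ((P : Subgroup G).subgroupOf C) ≤ normalizer ((Q : Subgroup C) : Set C) := by
      intro p hp
      refine centralizer_le_normalizer _ (mem_centralizer_iff.2 fun y hy => Subtype.ext ?_)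
      exact (mem_centralizer_iff.1 y.2 (p : G) hp).symm
    have h1 := Basic.card_normalizer_mul Q
    set M := Nat.card (normalizer ((Q : Subgroup C) : Set C)) with hMdef
    have h11 : 11 ∣ M := by
      rw [← hP, ← Nat.card_congr (subgroupOfEquivOfLe hPC).toEquiv]
      exact card_dvd_of_le hPN
    have hqa : q ^ a ∣ M := hQ ▸ card_dvd_of_le le_normalizer
    obtain ⟨c, hc⟩ := (hcop.pow_left a).mul_dvd_of_dvd_of_dvd hqa h11
    rw [hc, hC] at h1
    have h2 : c * Nat.card (Sylow q C) = j := by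
      refine Nat.eq_of_mul_eq_mul_left (show 0 < q ^ a * 11 by
        have := pow_pos hqp.pos a; omega) ?_
      linear_combination h1
    have h3 : Nat.card (Sylow q C) ≤ j := Nat.le_of_dvd hj ⟨c, by rw [← h2, mul_comm]⟩
    have h4 := card_sylow_modEq_one q C
    rw [Nat.ModEq, Nat.one_mod_eq_one.2 hqp.ne_one] at h4
    rcases (h3.trans hjq).lt_or_eq with h5 | h5
    · rwa [Nat.mod_eq_of_lt h5] at h4
    · rw [h5, Nat.mod_self] at h4; omega
  haveI : Subsingleton (Sylow q C) := (Nat.card_eq_one_iff_unique.1 hone).1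
  set U := (Q : Subgroup C).map C.subtype with hUdef
  have hU : Nat.card U = q ^ a := (card_map_of_injective C.subtype_injective).trans hQ
  have hUC : U ≤ C := map_subtype_le _
  have hconj : ∀ g ∈ normalizer ((P : Subgroup G) : Set G), ∀ u ∈ U, g * u * g⁻¹ ∈ U := by
    intro g hg u hu
    have hgC : g * u * g⁻¹ ∈ C := mem_centralizer_iff.2 fun y hy => by
      have h1 : g⁻¹ * y * g ∈ (P : Subgroup G) := (mem_normalizer_iff''.1 hg y).1 hy
      calc y * (g * u * g⁻¹) = g * ((g⁻¹ * y * g) * u) * g⁻¹ := by group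
        _ = g * (u * (g⁻¹ * y * g)) * g⁻¹ := by rw [mem_centralizer_iff.1 (hUC hu) _ h1]
        _ = g * u * g⁻¹ * y := by group
    have hpg : IsPGroup q (zpowers (⟨g * u * g⁻¹, hgC⟩ : C)) := by
      have h2 : orderOf (⟨g * u * g⁻¹, hgC⟩ : C) ∣ q ^ a := by
        rw [Subgroup.orderOf_mk, show orderOf (g * u * g⁻¹) = orderOf u from
          MulEquiv.orderOf_eq (MulAut.conj g) u, ← hU]
        exact orderOf_mk u hu ▸ orderOf_dvd_natCard _
      obtain ⟨i, -, hi⟩ := (Nat.dvd_prime_pow hqp).1 h2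
      exact IsPGroup.of_card (n := i) (by rw [Nat.card_zpowers, hi])
    obtain ⟨Q', hQ'⟩ := hpg.exists_le_sylow
    rw [Subsingleton.elim Q' Q] at hQ'
    exact ⟨_, hQ' (mem_zpowers _), rfl⟩
  refine ⟨U, hU, hUC, normalizer_eq hG P hP hn U ?_ hUC (by rw [hU]; exact hcop.pow_left a)
    fun g hg => mem_normalizer_fintype (hconj g hg)⟩
  intro e
  rw [e, card_bot] at hU
  exact absurd hU.symm (Nat.one_lt_pow ha hqp.one_lt).ne'

/-- The Sylow subgroup of the centralizer cannot be small. -/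
theorem no_kernel {P : Sylow 11 G} (hn : Nat.card (Sylow 11 G) = 144) (hP : Nat.card (P : Subgroup G) = 11)
    {q : ℕ} [Fact q.Prime] (hq : q ≠ 11) {a j : ℕ} (ha : a ≠ 0) (hj : 0 < j) (hjq : j ≤ q) (hqj : ¬ q ∣ j)
    (hC : Nat.card (centralizer ((P : Subgroup G) : Set G)) = 11 * (q ^ a * j))
    (hdvd : q ^ (a + 1) ∣ Nat.card G)
    (hbig : ¬ q ^ (a + 1) ∣ Nat.card (normalizer ((P : Subgroup G) : Set G))) : False := by
  obtain ⟨U, hU, -, hUN⟩ := exists_kernel hG hn hP hq ha hj hjq hqj hC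
  exact hbig (hUN ▸ Sylow.prime_pow_dvd_card_normalizer hdvd hU)

/-- The case of order 31680: ten classes and a centralizer of order 22. -/
theorem no_two_kernel {P : Sylow 11 G} (D : PBlock P) (ht : trivIrr G ∈ D.X)
    (hn : Nat.card (Sylow 11 G) = 144) (he : D.e = 10)
    (hC : Nat.card (centralizer ((P : Subgroup G) : Set G)) = 22)
    (hcard : Nat.card G = 31680) : False := by
  classical
  set N := normalizer ((P : Subgroup G) : Set G) with hNdef
  set C := centralizer ((P : Subgroup G) : Set G) with hCdef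
  obtain ⟨U, hU, hUC, hUN⟩ := exists_kernel hG hn D.card_P (q := 2) (a := 1) (j := 1) (by norm_num)
    one_ne_zero one_pos (by norm_num) (by norm_num) (by rw [hC]; norm_num)
  rw [pow_one] at hU
  obtain ⟨⟨y, hyU⟩, hy⟩ := exists_prime_orderOf_dvd_card' (G := U) 2 (by rw [hU])
  rw [Subgroup.orderOf_mk] at hy
  have hUy : zpowers y = U := eq_of_le_of_card_ge (zpowers_le.2 hyU) (by rw [Nat.card_zpowers, hy, hU])
  have hNcard : Nat.card N = 220 := by
    have := relIndex_mul_relIndex ⊥ C N bot_le (centralizer_le_normalizer _)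
    rw [relIndex_bot_left, relIndex_bot_left, hC, D.he, he] at this
    omega
  have hcy : centralizer ({y} : Set G) = N := by
    refine le_antisymm ?_ fun g hg => ?_
    · refine le_trans ?_ hUN.le
      rw [← hUy, ← centralizer_closure, ← zpowers_eq_closure]
      exact centralizer_le_normalizer _
    · have h1 : g * y * g⁻¹ ∈ U := (mem_normalizer_iff.1 (hUN.symm ▸ hg : g ∈ normalizer (U : Set G)) y).1 hyU
      rw [← hUy] at h1
      obtain ⟨i, hi⟩ := mem_powers_iff_mem_zpowers.2 h1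
      replace hi : y ^ i = g * y * g⁻¹ := hi
      rcases Nat.even_or_odd i with ⟨r, hr⟩ | ⟨r, hr⟩
      · exfalso
        rw [hr, ← two_mul, pow_mul, ← hy, pow_orderOf_eq_one, one_pow] at hi
        have : y = 1 := by simpa using hi.symm
        rw [this, orderOf_one] at hy; norm_num at hy
      · rw [hr, pow_succ, pow_mul, ← hy, pow_orderOf_eq_one, one_pow, one_mul] at hi
        exact mem_centralizer_singleton_iff.2 (eq_mul_inv_iff_mul_eq.1 hi).symm
  have hcls : cls y = 144 := by
    have h1 := card_mul_index (centralizer ({y} : Set G))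
    rw [hcy, hNcard, hcard] at h1
    show (centralizer ({y} : Set G)).index = 144
    rw [hcy]; omega
  have hcen : cen y = 220 := by show Nat.card (centralizer ({y} : Set G)) = 220; rw [hcy, hNcard]
  obtain ⟨x, hx1, hx⟩ := D.exists_ne_one
  have hxy : Commute x y := mem_centralizer_iff.1 (hUC hyU) x hx
  have hy11 : ¬ 11 ∣ orderOf y := by rw [hy]; norm_num
  have key : ∀ χ ∈ D.X.erase (trivIrr G), iv y χ * iv y χ = 144 := by
    intro χ hχ
    obtain ⟨hne, hX⟩ := Finset.mem_erase.1 hχ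
    have hd11 : 11 ≤ deg χ := by
      by_contra hlt
      have := D.card_centralizer hG ((D.mem_block χ).2 (Or.inl hX)) hne (by omega)
      rw [← hCdef, hC] at this
      norm_num at this
    have hdv : deg χ ∣ 31680 := hcard ▸ char_degree_dvd_card χ
    have hd178 : deg χ < 178 := by
      have h := hcard ▸ deg_sq_lt hne
      by_contra hc
      have : 178 * 178 ≤ deg χ * deg χ := Nat.mul_le_mul (by omega) (by omega)
      omega
    have hm := Int.modEq_iff_dvd.1 (D.deg_X χ hX)
    push_cast at hm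
    have h4 := iv_four hG hy χ
    have hlt := abs_lt.1 (iv_lt hG hy hne)
    have hcong : (11 : ℤ) ∣ D.sgn χ - iv y χ :=
      cong_int D.hM χ hxy (k := 1) (by rw [pow_one, D.x_pow hx]) hy11
        (D.val_X χ hX x hx hx1 y (hUC hyU) hy11) (iv_spec hG hy χ)
    have hsq : iv y χ * iv y χ ≤ 220 := by
      have h := iv_sq_le hG hy ({χ} : Finset (Cfsg.IrrCharacter G))
      rwa [Finset.sum_singleton, hcen] at h
    have hdc : (deg χ : ℤ) ∣ (144 : ℤ) * iv y χ := by
      have := deg_dvd_cls' χ (iv_spec hG hy χ)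
      rwa [hcls] at this
    have hd : deg χ ∈ [12, 32, 45, 120, 144] := by
      have hscan : ∀ d ∈ divs, 11 ≤ d → d < 178 → d ∣ 31680 → (d % 11 = 1 ∨ d % 11 = 10) →
          d ∈ [12, 32, 45, 120, 144] := by decide +kernel
      refine hscan _ (mem_divs (hdv.trans (by norm_num))) hd11 hd178 hdv ?_
      rcases D.sgn_eq χ hX with e | e <;> rw [e] at hm <;> omega
    have hb1 : iv y χ ≤ 14 := by nlinarith
    have hb2 : -14 ≤ iv y χ := by nlinarith
    have hs := D.sgn_eq χ hX
    refine kernel_scan _ hd (iv y χ + 14).toNat (List.mem_range.2 (by omega)) (D.sgn χ)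
      (by rcases hs with e | e <;> simp [e]) _ (by omega)
      ⟨?_, Int.emod_eq_zero_of_dvd h4, Int.emod_eq_zero_of_dvd hcong, ?_, Int.emod_eq_zero_of_dvd hdc⟩
    · exact Int.emod_eq_zero_of_dvd (by simpa using hm)
    · exact ⟨hlt.1, hlt.2⟩
  have hsum := iv_sq_le hG hy (D.X.erase (trivIrr G))
  rw [Finset.sum_congr rfl key, Finset.sum_const, Finset.card_erase_of_mem ht, D.card_X, he, hcen] at hsum
  norm_num at hsum

end Cfsg.Agent.M12Order.Graph
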