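import Cfsg.Agent.Lib.SmallSimple.DegreeGraph6000.Sixty
import Cfsg.Agent.Lib.SmallSimple.DegreeGraph6000.Solvable

/-!
# Degrees of direct products; a group of order twelve with a degree divisible by three
-/

set_option autoImplicit false
set_option linter.style.haveILetI false
set_option linter.unusedSectionVars false

namespace Cfsg.Agent.M12Order.Graph

open Subgroup
open Cfsg.Agent.Characters Cfsg.Agent.SmallSimple
open scoped ComplexConjugate

/-- The irreducible characters of a direct product are the products. -/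
theorem exists_factors {A B : Type*} [Group A] [Finite A] [Group B] [Finite B]
    (χ : Cfsg.IrrCharacter (A × B)) :
    ∃ (α : Cfsg.IrrCharacter A) (β : Cfsg.IrrCharacter B),
      (χ : A × B → ℂ) 1 = (α : A → ℂ) 1 * (β : B → ℂ) 1 := by
  classical
  haveI := Fintype.ofFinite A
  haveI := Fintype.ofFinite B
  haveI := Fintype.ofFinite (Cfsg.IrrCharacter A)
  haveI := Fintype.ofFinite (Cfsg.IrrCharacter B)
  haveI := Fintype.ofFinite (Cfsg.IrrCharacter (A × B))
  let f : Cfsg.IrrCharacter A × Cfsg.IrrCharacter B → Cfsg.IrrCharacter (A × B) := fun p =>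
    ⟨fun x => (p.1 : A → ℂ) x.1 * (p.2 : B → ℂ) x.2, DegreeGraph6000.irr_prod p.1.2 p.2.2⟩
  have hfst : ∀ p q, f p = f q → p.1 = q.1 := by
    rintro ⟨α, β⟩ ⟨α', β'⟩ h
    by_contra hne
    have hb : (β : B → ℂ) 1 ≠ 0 := irr_one_ne_zero β.2
    have h0 : ∀ a : A, (α : A → ℂ) a * (β : B → ℂ) 1 = (α' : A → ℂ) a * (β' : B → ℂ) 1 := fun a =>
      congrFun (congrArg Subtype.val h) (a, 1)
    have he : (α : A → ℂ) = ((β' : B → ℂ) 1 / (β : B → ℂ) 1) • (α' : A → ℂ) := by
      funext a
      rw [Pi.smul_apply, smul_eq_mul, div_mul_eq_mul_div, eq_div_iff hb, h0 a]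
      ring
    have h2 : Cfsg.classInner (α : A → ℂ) (α' : A → ℂ) = 0 :=
      classInner_isIrr_ne α.2 α'.2 fun e => hne (Subtype.ext e)
    rw [he, classInner_smul_left, classInner_isIrr_self α'.2, mul_one, div_eq_zero_iff] at h2
    rcases h2 with h2 | h2
    · exact irr_one_ne_zero β'.2 h2
    · exact hb h2
  have hinj : Function.Injective f := by
    rintro ⟨α, β⟩ ⟨α', β'⟩ h
    obtain rfl : α = α' := hfst _ _ h
    refine Prod.ext rfl (Subtype.ext (funext fun b => ?_))
    exact mul_left_cancel₀ (irr_one_ne_zero α.2) (congrFun (congrArg Subtype.val h) (1, b))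
  by_contra hno
  push Not at hno
  have hnot : χ ∉ Finset.univ.image f := fun h => by
    obtain ⟨⟨α, β⟩, -, h⟩ := Finset.mem_image.1 h
    exact hno α β (by rw [← h]; rfl)
  have hA := sum_degree_sq (G := A)
  have hB := sum_degree_sq (G := B)
  have hP := sum_degree_sq (G := A × B)
  choose d hd1 hd using fun ψ : Cfsg.IrrCharacter (A × B) => irr_one_pos ψ.2
  have hsum : ∑ ψ ∈ Finset.univ.image f, (ψ : A × B → ℂ) 1 ^ 2 = (Nat.card (A × B) : ℂ) := by
    rw [Finset.sum_image fun x _ y _ h => hinj h, Nat.card_prod, Nat.cast_mul, ← hA, ← hB,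
      Finset.sum_mul_sum, Fintype.sum_prod_type]
    exact Finset.sum_congr rfl fun α _ => Finset.sum_congr rfl fun β _ => by
      show ((α : A → ℂ) 1 * (β : B → ℂ) 1) ^ 2 = _
      ring
  have hle : ∑ ψ ∈ insert χ (Finset.univ.image f), d ψ ^ 2 ≤ ∑ ψ, d ψ ^ 2 :=
    Finset.sum_le_sum_of_subset_of_nonneg (Finset.subset_univ _) fun ψ _ _ => Nat.zero_le _
  rw [Finset.sum_insert hnot] at hle
  have e1 : (∑ ψ ∈ Finset.univ.image f, d ψ ^ 2) = Nat.card (A × B) := by
    apply Nat.cast_injective (R := ℂ)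
    rw [Nat.cast_sum, ← hsum]
    exact Finset.sum_congr rfl fun ψ _ => by rw [hd]; push_cast; ring
  have e2 : (∑ ψ, d ψ ^ 2) = Nat.card (A × B) := by
    apply Nat.cast_injective (R := ℂ)
    rw [Nat.cast_sum, ← hP]
    exact Finset.sum_congr rfl fun ψ _ => by rw [hd]; push_cast; ring
  have := Nat.pow_pos (n := 2) (hd1 χ)
  omega

/-- A group of order twelve with a degree divisible by three is alternating. -/
theorem equiv_alternating {R : Type*} [Group R] [Finite R] (hR : Nat.card R = 12)
    (h3 : 3 ∈ Cfsg.degreePrimes R) : Nonempty (R ≃* alternatingGroup (Fin 4)) := by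
  classical
  haveI : Fact (Nat.Prime 3) := ⟨Nat.prime_three⟩
  obtain ⟨P⟩ : Nonempty (Sylow 3 R) := inferInstance
  have hP : Nat.card (P : Subgroup R) = 3 := by
    rw [Basic.card_sylow_eq_pow (a := 1) (m := 4) (by rw [hR]; norm_num) (by norm_num) P, pow_one]
  have hnn : ∀ Q : Subgroup R, Nat.card Q = 3 → ¬ Q.Normal := by
    intro Q hQ hn
    haveI : IsCyclic Q := isCyclic_of_prime_card hQ
    refine DegreeGraph6000.not_vertex_of_abelian Q (fun a ha b hb => ?_) ?_ h3
    · letI := IsCyclic.commGroup (α := Q)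
      exact congrArg Subtype.val (mul_comm (⟨a, ha⟩ : Q) ⟨b, hb⟩)
    · intro hd
      have := card_mul_index Q
      rw [hQ, hR] at this
      omega
  have hn : Nat.card (Sylow 3 R) = 4 := by
    have h1 := card_sylow_modEq_one 3 R
    have h2 := P.card_dvd_index
    have h3' := card_mul_index (P : Subgroup R)
    rw [hP, hR] at h3'
    rw [show (P : Subgroup R).index = 4 by omega] at h2
    have h4 := Nat.le_of_dvd (by norm_num) h2
    have h5 : Nat.card (Sylow 3 R) ≠ 1 := fun e => by
      haveI : Subsingleton (Sylow 3 R) := (Nat.card_eq_one_iff_unique.1 e).1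
      exact hnn _ hP (Sylow.normal_of_subsingleton P)
    rw [Nat.ModEq] at h1
    omega
  let c : Sylow 3 R ≃ Fin 4 := (Finite.equivFin _).trans (finCongr hn)
  let f : R →* Equiv.Perm (Fin 4) :=
    c.permCongrHom.toMonoidHom.comp (MulAction.toPermHom R (Sylow 3 R))
  have hf : Function.Injective f := by
    refine c.permCongrHom.injective.comp ((MonoidHom.ker_eq_bot_iff _).1 ?_)
    set K := (MulAction.toPermHom R (Sylow 3 R)).ker
    have hNP : normalizer ((P : Subgroup R) : Set R) = (P : Subgroup R) := by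
      refine (eq_of_le_of_card_ge le_normalizer ?_).symm
      have h := Basic.card_normalizer_mul P
      rw [hn, hR] at h
      omega
    have hKP : K ≤ (P : Subgroup R) := fun x hx => hNP ▸ Sylow.smul_eq_iff_mem_normalizer.1
      (Equiv.Perm.congr_fun (MonoidHom.mem_ker.1 hx) P)
    rcases (Nat.dvd_prime Nat.prime_three).1 (hP ▸ card_dvd_of_le hKP) with h | h
    · exact card_eq_one.1 h
    · exact absurd (MonoidHom.normal_ker _) (hnn K h)
  have hrange : f.range = alternatingGroup (Fin 4) := by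
    refine Equiv.Perm.eq_alternatingGroup_of_index_eq_two ?_
    have h := f.range.card_mul_index
    rw [Nat.card_perm, Nat.card_fin, ← Nat.card_congr (MonoidHom.ofInjective hf).toEquiv, hR] at h
    norm_num [Nat.factorial] at h
    omega
  exact ⟨(MonoidHom.ofInjective hf).trans (MulEquiv.subgroupCongr hrange)⟩

end Cfsg.Agent.M12Order.Graph
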