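import Cfsg.Agent.Lib.M12Order.Graph.Cases
import Cfsg.Agent.Lib.M12Order.Counts
import Cfsg.Agent.Lib.SmallSimple.DegreeGraph6000.Solvable

/-!
# The simple section over the normal subgroup of order prime to eleven
-/

set_option autoImplicit false
set_option linter.style.haveILetI false
set_option linter.unusedSectionVars false

namespace Cfsg.Agent.M12Order.Graph

open Subgroup
open scoped commutatorElement
open Cfsg.Agent.SmallSimple

universe u

/-- The subgroup generated by the elements of order eleven. -/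
def elevenGen (H : Type u) [Group H] : Subgroup H := closure {g : H | orderOf g = 11}

instance elevenGen_normal (H : Type u) [Group H] : (elevenGen H).Normal := by
  refine ⟨fun a ha g => ?_⟩
  induction ha using closure_induction with
  | mem y hy =>
    exact subset_closure (show orderOf (g * y * g⁻¹) = 11 from
      (MulEquiv.orderOf_eq (MulAut.conj g) y).trans hy)
  | one => simp
  | mul y z _ _ hy hz => rw [← conj_mul]; exact mul_mem hy hz
  | inv y _ hy => rw [← conj_inv]; exact inv_mem hy

theorem not_sq_dvd {n : ℕ} (hn : n ∣ 95040) : ¬ 11 ^ 2 ∣ n := fun h => by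
  have : 11 ^ 2 ∣ 95040 := h.trans hn
  norm_num at this

variable {H : Type u} [Group H] [Finite H] (hd : Nat.card H ∣ 95040)

include hd

/-- A normal subgroup of order divisible by eleven contains the elements of order eleven. -/
theorem mem_of_dvd (L : Subgroup H) [L.Normal] (h11 : 11 ∣ Nat.card L) {y : H} (hy : orderOf y = 11) :
    y ∈ L := by
  rw [← QuotientGroup.eq_one_iff]
  rcases (Nat.dvd_prime (by norm_num : Nat.Prime 11)).1
    (hy ▸ orderOf_map_dvd (QuotientGroup.mk' L) y) with h | h
  · exact orderOf_eq_one_iff.1 h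
  · exfalso
    have h2 : 11 ∣ L.index := h ▸ orderOf_dvd_natCard _
    exact not_sq_dvd hd (by rw [sq, ← L.card_mul_index]; exact mul_dvd_mul h11 h2)

theorem elevenGen_le (L : Subgroup H) [L.Normal] (h11 : 11 ∣ Nat.card L) : elevenGen H ≤ L :=
  (closure_le L).2 fun _ hy => mem_of_dvd hd L h11 hy

/-- An element of order eleven centralises the normal subgroups of order prime to eleven. -/
theorem le_centralizer_eleven {y : H} (hy : orderOf y = 11) (N : Subgroup H) [N.Normal]
    (hN : ¬ 11 ∣ Nat.card N) : N ≤ centralizer ({y} : Set H) := by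
  refine inf_eq_left.1 (eq_of_le_of_card_ge inf_le_left (Nat.le_of_dvd Nat.card_pos ?_))
  refine (Nat.dvd_iff_prime_pow_dvd_dvd _ _).2 fun q k hq hk => ?_
  rcases Nat.eq_zero_or_pos k with rfl | hk0
  · simp
  have hNd : Nat.card N ∣ 95040 := (card_subgroup_dvd_card N).trans hd
  have h8640 : Nat.card N ∣ 8640 :=
    (((Nat.Prime.coprime_iff_not_dvd (by norm_num : Nat.Prime 11)).2 hN).symm).dvd_of_dvd_mul_left
      (show Nat.card N ∣ 11 * 8640 from hNd)
  have hq8640 : q ∣ 8640 := ((dvd_pow_self q hk0.ne').trans hk).trans h8640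
  have hqlist : q ∈ [2, 3, 5] := by
    have h : q ∈ Nat.primeFactorsList 8640 :=
      (Nat.mem_primeFactorsList (by norm_num)).2 ⟨hq, hq8640⟩
    have hl : ∀ r ∈ Nat.primeFactorsList 8640, r ∈ [2, 3, 5] := by
      intro r hr
      obtain ⟨hr, hr8640⟩ := (Nat.mem_primeFactorsList (by norm_num)).1 hr
      rw [show 8640 = 2 ^ 6 * 3 ^ 3 * 5 by norm_num] at hr8640
      rcases (Nat.Prime.dvd_mul hr).1 hr8640 with h | h
      · rcases (Nat.Prime.dvd_mul hr).1 h with h | h
        · simp [(Nat.prime_dvd_prime_iff_eq hr Nat.prime_two).1 (hr.dvd_of_dvd_pow h)]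
        · simp [(Nat.prime_dvd_prime_iff_eq hr Nat.prime_three).1 (hr.dvd_of_dvd_pow h)]
      · simp [(Nat.prime_dvd_prime_iff_eq hr (by norm_num)).1 h]
    exact hl q h
  refine DegreeGraph6000.dvd_card_centralizer hy N hN hq hk fun a ha hda hmod => ?_
  have hqa : q ^ a ∣ 8640 := hda.trans h8640
  have ha7 : a < 7 + 7 := by
    by_contra hc
    have h1 : 2 ^ 14 ≤ q ^ a :=
      (Nat.pow_le_pow_right (by norm_num) (not_lt.1 hc)).trans (Nat.pow_le_pow_left hq.two_le a)
    have := Nat.le_of_dvd (by norm_num) hqa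
    norm_num at h1
    omega
  have hscan : ∀ p ∈ [2, 3, 5], ∀ a ∈ Finset.range 14, 1 ≤ a → p ^ a ∣ 8640 → p ^ a % 11 ≠ 1 := by
    decide +kernel
  exact hscan q hqlist a (Finset.mem_range.2 ha7) ha hqa (by simpa [Nat.ModEq] using hmod)

omit hd

/-- The section: `M` is simple and is generated by the images of the elements of order eleven. -/
theorem exists_section {G : Type u} [Group G] [Finite G] (hcard : Nat.card G = 95040)
    (h11 : 11 ∈ Cfsg.degreePrimes G) :
    ∃ (N : Subgroup G) (_ : N.Normal) (M : Subgroup (G ⧸ N)) (_ : M.Normal) (_ : IsSimpleGroup M),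
      ¬ IsMulCommutative M ∧ 11 ∣ Nat.card M ∧ centralizer (M : Set (G ⧸ N)) = ⊥ ∧
      elevenGen G ≤ centralizer (N : Set G) ∧
      (elevenGen G).map (QuotientGroup.mk' N) = M ∧ commutator (elevenGen G) = ⊤ := by
  classical
  have hdG : Nat.card G ∣ 95040 := hcard ▸ dvd_refl _
  obtain ⟨N, ⟨hN, hN11⟩, hmax⟩ := Set.Finite.exists_maximalFor (fun A : Subgroup G => Nat.card A)
    {A : Subgroup G | A.Normal ∧ ¬ 11 ∣ Nat.card A} (Set.toFinite _)
    ⟨⊥, inferInstance, by rw [card_bot]; norm_num⟩
  haveI := hN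
  have hmulQ := card_eq_card_quotient_mul_card_subgroup N
  have hdQ : Nat.card (G ⧸ N) ∣ 95040 := hcard ▸ ⟨_, hmulQ⟩
  have hQ11 : 11 ∣ Nat.card (G ⧸ N) :=
    ((by norm_num : Nat.Prime 11).dvd_mul.1 (hmulQ ▸ hcard.symm ▸ (by norm_num : 11 ∣ 95040))).resolve_right hN11
  have hmin : ∀ W : Subgroup (G ⧸ N), W.Normal → W ≠ ⊥ → 11 ∣ Nat.card W := by
    intro W hW hW0
    by_contra hnd
    set V := W.comap (QuotientGroup.mk' N)
    have hNV : N ≤ V := fun a ha => by
      show QuotientGroup.mk' N a ∈ W
      rw [QuotientGroup.mk'_apply, (QuotientGroup.eq_one_iff a).2 ha]; exact one_mem _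
    have hV : Nat.card V = Nat.card N * Nat.card W := by
      have h1 := relIndex_mul_relIndex ⊥ N V bot_le hNV
      rw [relIndex_bot_left, relIndex_bot_left] at h1
      have h2 : N.relIndex V = Nat.card W := by
        have h := relIndex_comap ⊥ (QuotientGroup.mk' N) V
        rw [MonoidHom.comap_bot, QuotientGroup.ker_mk',
          map_comap_eq_self_of_surjective (QuotientGroup.mk'_surjective N), relIndex_bot_left] at h
        exact h
      rw [← h1, h2]
    have hV11 : ¬ 11 ∣ Nat.card V := fun h => by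
      rw [hV] at h
      rcases (by norm_num : Nat.Prime 11).dvd_mul.1 h with h | h
      · exact hN11 h
      · exact hnd h
    have hle : Nat.card V ≤ Nat.card N :=
      hmax ⟨inferInstance, hV11⟩ (Nat.le_of_dvd Nat.card_pos (card_dvd_of_le hNV))
    have he : N = V := eq_of_le_of_card_ge hNV hle
    refine hW0 (le_bot_iff.1 fun w hw => ?_)
    obtain ⟨g, rfl⟩ := QuotientGroup.mk'_surjective N w
    exact mem_bot.2 ((QuotientGroup.eq_one_iff g).2 (he ▸ (hw : g ∈ V)))
  set M := elevenGen (G ⧸ N) with hM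
  obtain ⟨y₀, hy₀⟩ := exists_prime_orderOf_dvd_card' (G := G ⧸ N) 11 hQ11
  have hy₀M : y₀ ∈ M := subset_closure hy₀
  have hM11 : 11 ∣ Nat.card M := by
    have := orderOf_dvd_natCard (⟨y₀, hy₀M⟩ : M)
    rwa [Subgroup.orderOf_mk, hy₀] at this
  have hMmin : ∀ W : Subgroup (G ⧸ N), W.Normal → W ≠ ⊥ → M ≤ W := fun W hW hW0 =>
    elevenGen_le hdQ W (hmin W hW hW0)
  have hNcen : elevenGen G ≤ centralizer (N : Set G) :=
    (closure_le _).2 fun y hy => mem_centralizer_iff.2 fun n hn =>
      mem_centralizer_singleton_iff.1 (le_centralizer_eleven hdG hy N hN11 hn)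
  have himg : ∀ y : G, orderOf y = 11 → orderOf (QuotientGroup.mk' N y) = 11 := by
    intro y hy
    rcases (Nat.dvd_prime (by norm_num : Nat.Prime 11)).1
      (hy ▸ orderOf_map_dvd (QuotientGroup.mk' N) y) with h | h
    · exfalso
      have hyN : y ∈ N := (QuotientGroup.eq_one_iff y).1 (orderOf_eq_one_iff.1 h)
      have := orderOf_dvd_natCard (⟨y, hyN⟩ : N)
      rw [Subgroup.orderOf_mk, hy] at this
      exact hN11 this
    · exact h
  obtain ⟨y, hy⟩ := exists_prime_orderOf_dvd_card' (G := G) 11 (by rw [hcard]; norm_num)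
  -- not commutative
  have hnc : ¬ IsMulCommutative M := by
    intro hcm
    -- then `M` has order eleven
    have hexp : ∀ m ∈ M, m ^ 11 = 1 := by
      intro m hm
      induction hm using closure_induction with
      | mem z hz => exact (show orderOf z = 11 from hz) ▸ pow_orderOf_eq_one z
      | one => exact one_pow _
      | mul a b ha hb h1 h2 =>
        have hab : Commute a b := congrArg Subtype.val (hcm.is_comm.comm ⟨a, ha⟩ ⟨b, hb⟩)
        rw [hab.mul_pow, h1, h2, one_mul]
      | inv a _ h1 => rw [inv_pow, h1, inv_one]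
    have hMp : IsPGroup 11 M := fun m => ⟨1, Subtype.ext (by simpa using hexp m m.2)⟩
    have hMc : Nat.card M = 11 := by
      obtain ⟨i, hi⟩ := IsPGroup.iff_card.1 hMp
      have h2 : ¬ 11 ^ 2 ∣ Nat.card M := not_sq_dvd ((card_subgroup_dvd_card M).trans hdQ)
      rw [hi] at hM11 h2 ⊢
      match i with
      | 0 => norm_num at hM11
      | 1 => norm_num
      | i + 2 => exact absurd (pow_dvd_pow 11 (by omega)) h2
    have hyM : QuotientGroup.mk' N y ∈ M := subset_closure (himg y hy)
    have hgen : zpowers (QuotientGroup.mk' N y) = M :=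
      eq_of_le_of_card_ge (zpowers_le.2 hyM) (by rw [Nat.card_zpowers, himg y hy, hMc])
    have hall : ∀ g : G, orderOf g = 11 → g ∈ zpowers y := by
      intro g hg
      have hgM : QuotientGroup.mk' N g ∈ zpowers (QuotientGroup.mk' N y) :=
        hgen.symm ▸ subset_closure (himg g hg)
      obtain ⟨i, hi⟩ := mem_zpowers_iff.1 hgM
      rw [← map_zpow] at hi
      have hn : (y ^ i)⁻¹ * g ∈ N := QuotientGroup.eq.1 hi
      set n := (y ^ i)⁻¹ * g with hndef
      have hgy : g = y ^ i * n := by rw [hndef]; group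
      have hcomm : Commute (y ^ i) n :=
        Commute.zpow_left (mem_centralizer_iff.1 (hNcen (subset_closure hy)) n hn).symm i
      have h11' : n ^ 11 = 1 := by
        have h1 : g ^ 11 = 1 := hg ▸ pow_orderOf_eq_one g
        have h2 : (y ^ i) ^ 11 = 1 := by
          rw [← zpow_natCast, ← zpow_mul, mul_comm, zpow_mul, zpow_natCast, ← hy, pow_orderOf_eq_one,
            one_zpow]
        rw [hgy, hcomm.mul_pow, h2, one_mul] at h1
        exact h1
      have hn1 : n = 1 := by
        rcases (Nat.dvd_prime (by norm_num : Nat.Prime 11)).1 (orderOf_dvd_of_pow_eq_one h11') with h | h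
        · exact orderOf_eq_one_iff.1 h
        · exfalso
          have := orderOf_dvd_natCard (⟨n, hn⟩ : N)
          rw [Subgroup.orderOf_mk, h] at this
          exact hN11 this
      rw [hgy, hn1, mul_one]
      exact zpow_mem (mem_zpowers y) i
    haveI : (zpowers y).Normal := by
      have hle : zpowers y = elevenGen G :=
        le_antisymm (zpowers_le.2 (subset_closure hy)) ((closure_le _).2 hall)
      rw [hle]; infer_instance
    refine DegreeGraph6000.not_vertex_of_abelian (r := 11) (zpowers y) (fun a ha b hb => ?_) ?_ h11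
    · obtain ⟨i, rfl⟩ := mem_zpowers_iff.1 ha
      obtain ⟨j, rfl⟩ := mem_zpowers_iff.1 hb
      exact ((Commute.refl y).zpow_zpow i j).eq
    · intro hdvd
      have h := card_mul_index (zpowers y)
      rw [Nat.card_zpowers, hy, hcard] at h
      omega
  -- simplicity
  haveI : Nontrivial M := ⟨⟨⟨y₀, hy₀M⟩, 1, fun h => by
    have : y₀ = 1 := congrArg Subtype.val h
    rw [this, orderOf_one] at hy₀; norm_num at hy₀⟩⟩
  have hcen : centralizer (M : Set (G ⧸ N)) = ⊥ := by
    by_contra hne
    refine hnc ⟨⟨fun a b => Subtype.ext ?_⟩⟩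
    exact (mem_centralizer_iff.1 (hMmin _ inferInstance hne b.2) a a.2)
  have hsimple : IsSimpleGroup M := by
    refine ⟨fun L hL => ?_⟩
    haveI := hL
    have hdM : Nat.card M ∣ 95040 := (card_subgroup_dvd_card M).trans hdQ
    by_cases h : 11 ∣ Nat.card L
    · refine Or.inr (eq_top_iff.2 fun m _ => ?_)
      have hle : M ≤ L.map M.subtype := (closure_le _).2 fun q hq =>
        ⟨⟨q, subset_closure hq⟩, mem_of_dvd hdM L h ((orderOf_coe _).symm.trans hq), rfl⟩
      obtain ⟨l, hl, hlm⟩ := hle m.2
      exact M.subtype_injective hlm ▸ hl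
    · refine Or.inl (le_bot_iff.1 fun l hl => mem_bot.2 (Subtype.ext ?_))
      have hMl : M ≤ centralizer ({(l : G ⧸ N)} : Set (G ⧸ N)) := (closure_le _).2 fun q hq => by
        have h2 : orderOf (⟨q, subset_closure hq⟩ : M) = 11 := (orderOf_coe _).symm.trans hq
        have h3 := mem_centralizer_singleton_iff.1 (le_centralizer_eleven hdM h2 L h hl)
        exact mem_centralizer_singleton_iff.2 (congrArg Subtype.val h3).symm
      have hle : (l : G ⧸ N) ∈ centralizer (M : Set (G ⧸ N)) :=
        mem_centralizer_iff.2 fun m hm => mem_centralizer_singleton_iff.1 (hMl hm)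
      rw [hcen, mem_bot] at hle
      exact hle
  have hmap : (elevenGen G).map (QuotientGroup.mk' N) = M := by
    refine le_antisymm ?_ (hMmin _ (Normal.map inferInstance _ (QuotientGroup.mk'_surjective N)) fun h => ?_)
    · rw [elevenGen, MonoidHom.map_closure, closure_le]
      rintro _ ⟨g, hg, rfl⟩
      exact subset_closure (himg g hg)
    · have : QuotientGroup.mk' N y ∈ (⊥ : Subgroup (G ⧸ N)) := h ▸ mem_map_of_mem _ (subset_closure hy)
      have h' := himg y hy
      rw [mem_bot.1 this, orderOf_one] at h'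
      norm_num at h'
  -- perfect
  have hperfM : ⁅M, M⁆ = M := by
    rcases (Classical.em (⁅M, M⁆ = ⊥)) with h | h
    · exfalso
      refine hnc ⟨⟨fun a b => Subtype.ext ?_⟩⟩
      have hab : ⁅(a : G ⧸ N), (b : G ⧸ N)⁆ ∈ ⁅M, M⁆ := commutator_mem_commutator a.2 b.2
      rw [h, mem_bot, commutatorElement_eq_one_iff_mul_comm] at hab
      exact hab
    · refine le_antisymm ?_ (hMmin _ inferInstance h)
      rw [commutator_le]
      intro a ha b hb
      exact mul_mem (mul_mem (mul_mem ha hb) (inv_mem ha)) (inv_mem hb)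
  have hperf : commutator (elevenGen G) = ⊤ := by
    set E := elevenGen G with hE
    have hmapD : (⁅E, E⁆).map (QuotientGroup.mk' N) = M := by rw [map_commutator, hmap, hperfM]
    have hD11 : 11 ∣ Nat.card (⁅E, E⁆ : Subgroup G) := by
      refine hM11.trans ?_
      rw [← hmapD]
      exact card_map_dvd _ _
    have hle : E ≤ ⁅E, E⁆ := elevenGen_le hdG _ hD11
    refine eq_top_iff.2 fun e _ => ?_
    have he : (e : G) ∈ (commutator E).map E.subtype := by
      rw [_root_.commutator_def, map_commutator, ← MonoidHom.range_eq_map, range_subtype]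
      exact hle e.2
    obtain ⟨e', he', hee⟩ := he
    exact E.subtype_injective hee ▸ he'
  exact ⟨N, hN, M, inferInstance, hsimple, hnc, hM11, hcen, hNcen, hmap, hperf⟩

end Cfsg.Agent.M12Order.Graph
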