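import Cfsg.Agent.Lib.M12Order.Graph.Radical
import Cfsg.Agent.Lib.M12Order.Graph.Product
import Cfsg.Agent.Recognition.MathieuEleven
import Cfsg.Agent.Recognition.MathieuElevenAut
import Cfsg.Agent.S0887
import Cfsg.Agent.S2034
import Cfsg.Agent.S4429

/-!
# Groups of order 95040 with degrees divisible by 55 and by 33
-/

set_option autoImplicit false
set_option linter.style.haveILetI false
set_option linter.unusedSectionVars false

namespace Cfsg.Agent.M12Order.Graph

open Subgroup
open Cfsg.Agent.Characters Cfsg.Agent.SmallSimple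
open scoped ComplexConjugate

universe u

variable {G : Type u} [Group G] [Finite G]

theorem charDegree_natCast {χ : G → ℂ} {d : ℕ} (h : χ 1 = (d : ℂ)) : Cfsg.charDegree χ = d := by
  rw [Cfsg.charDegree, h, Complex.natCast_re, Nat.floor_natCast]

/-- A section of order 660 leaves no degree divisible by fifty-five. -/
theorem false_of_660 (hcard : Nat.card G = 95040) (N : Subgroup G) [N.Normal]
    (hNE : elevenGen G ≤ centralizer (N : Set G))
    (hM : Nat.card ((elevenGen G).map (QuotientGroup.mk' N)) = 660)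
    (h55 : ∃ d ∈ Cfsg.charDegrees G, 5 * 11 ∣ d) : False := by
  classical
  haveI := Fintype.ofFinite G
  obtain ⟨d, ⟨χ, hχd⟩, hd⟩ := h55
  set E := elevenGen G with hE
  haveI := Fintype.ofFinite E
  haveI := Fintype.ofFinite (Cfsg.IrrCharacter E)
  have hres : Cfsg.IsCharacter E (fun n : E => (χ : G → ℂ) n) :=
    isCharacter_comp E.subtype (irr_isCharacter χ)
  obtain ⟨ϑ, hϑ⟩ : ∃ ϑ : Cfsg.IrrCharacter E,
      Cfsg.classInner (fun n : E => (χ : G → ℂ) n) (ϑ : E → ℂ) ≠ 0 := by
    by_contra hno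
    push Not at hno
    have h := congrFun (classFun_eq_sum (char_isClassFunction hres)) 1
    rw [Finset.sum_eq_zero fun ψ _ => by rw [hno ψ, zero_smul]] at h
    exact irr_one_ne_zero χ.2 (by simpa using h)
  obtain ⟨c, hc0, hc⟩ := irr_one_pos χ.2
  obtain ⟨b, hb0, hb⟩ := irr_one_pos ϑ.2
  obtain ⟨hbc, hidx⟩ := S0887.result E (χ : G → ℂ) χ.2 (ϑ : E → ℂ) ϑ.2 hϑ c b hc hb
  rw [charDegree_natCast hc] at hχd
  subst hχd
  have hEidx : E.index ∣ 144 := by
    obtain ⟨k, hk⟩ : 660 ∣ Nat.card E := hM ▸ card_map_dvd _ _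
    have h := E.card_mul_index
    rw [hk, hcard, mul_assoc] at h
    exact ⟨k, by rw [mul_comm]; omega⟩
  have h55b : 55 ∣ b := by
    obtain ⟨e, rfl⟩ := hbc
    rw [Nat.mul_div_cancel_left _ hb0] at hidx
    have hcop : Nat.Coprime 55 e :=
      Nat.Coprime.coprime_dvd_right (hidx.trans hEidx) (by norm_num)
    exact hcop.dvd_of_dvd_mul_right hd
  have hle : b ^ 2 ≤ (center E).index := DegreeGraph6000.sq_degree_le_center_index ϑ.2 hb
  have hZ : N.subgroupOf E ≤ center E := fun z hz => mem_center_iff.2 fun e =>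
    Subtype.ext (mem_centralizer_iff.1 (hNE e.2) (z : G) hz).symm
  have h660 : (N.subgroupOf E).index = 660 := by
    rw [← hM]
    change N.relIndex E = _
    have h := relIndex_comap ⊥ (QuotientGroup.mk' N) E
    rwa [MonoidHom.comap_bot, QuotientGroup.ker_mk', relIndex_bot_left] at h
  have h2 : (center E).index ≤ 660 :=
    h660 ▸ Nat.le_of_dvd (Nat.pos_of_ne_zero index_ne_zero_of_finite) (index_dvd_of_le hZ)
  have h55' : 55 ≤ b := Nat.le_of_dvd hb0 h55b
  nlinarith

/-- A section of order 7920 splits off. -/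
theorem product_of_7920 (hcard : Nat.card G = 95040) (N : Subgroup G) [N.Normal]
    (M : Subgroup (G ⧸ N)) [M.Normal] [IsSimpleGroup M] (hM : Nat.card M = 7920)
    (hcen : centralizer (M : Set (G ⧸ N)) = ⊥) (hNE : elevenGen G ≤ centralizer (N : Set G))
    (hmap : (elevenGen G).map (QuotientGroup.mk' N) = M) (hperf : commutator (elevenGen G) = ⊤) :
    Nonempty (N × M ≃* G) ∧ Nat.card N = 12 := by
  classical
  have hIs : Cfsg.IsM11 M := ⟨inferInstance, hM⟩
  have htop : M = ⊤ := by
    refine eq_top_iff.2 fun q _ => ?_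
    obtain ⟨k, hk⟩ := Recognition.MathieuElevenAut.inn_eq_top hIs (MulAut.conjNormal q)
    have hmem : (k : G ⧸ N)⁻¹ * q ∈ centralizer (M : Set (G ⧸ N)) := mem_centralizer_iff.2 fun m hm => by
      have h := congrArg Subtype.val (hk ⟨m, hm⟩)
      rw [MulAut.conjNormal_apply] at h
      push_cast at h
      calc m * ((k : G ⧸ N)⁻¹ * q) = (k : G ⧸ N)⁻¹ * ((k : G ⧸ N) * m * (k : G ⧸ N)⁻¹) * q := by group
        _ = (k : G ⧸ N)⁻¹ * (q * m * q⁻¹) * q := by rw [h]
        _ = (k : G ⧸ N)⁻¹ * q * m := by group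
    rw [hcen, mem_bot, inv_mul_eq_one] at hmem
    exact hmem ▸ k.2
  have hN : Nat.card N = 12 := by
    have h := card_eq_card_quotient_mul_card_subgroup N
    rw [hcard, show Nat.card (G ⧸ N) = 7920 by rw [← hM, htop, card_top]] at h
    omega
  set E := elevenGen G with hE
  let π : E →* M := ((QuotientGroup.mk' N).comp E.subtype).codRestrict M fun e =>
    hmap ▸ mem_map_of_mem _ e.2
  have hπs : Function.Surjective π := by
    rintro ⟨m, hm⟩
    rw [← hmap] at hm
    obtain ⟨e, he, rfl⟩ := hm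
    exact ⟨⟨e, he⟩, rfl⟩
  have hker : ∀ e : E, e ∈ π.ker → (e : G) ∈ N := fun e he =>
    (QuotientGroup.eq_one_iff _).1 (congrArg Subtype.val (MonoidHom.mem_ker.1 he))
  -- the central extension is trivial
  have hπi : Function.Injective π := by
    obtain ⟨i⟩ := M11Order.Unique.equiv hIs Recognition.MathieuEleven.isM11_M11
    let s : Shrink.{0} E ≃* E := Shrink.mulEquiv
    let σ : Shrink.{0} E →* ↥Cfsg.Spor.M11 :=
      (i.toMonoidHom.comp π).comp s.toMonoidHom
    have hσ : Cfsg.IsStemExtension σ := by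
      refine ⟨?_, ?_, ?_⟩
      · exact (i.surjective.comp hπs).comp s.surjective
      · intro z hz
        rw [MonoidHom.mem_ker] at hz
        have hz' : π (s z) = 1 := i.injective (hz.trans i.map_one.symm)
        refine mem_center_iff.2 fun g => s.injective ?_
        rw [map_mul, map_mul]
        exact Subtype.ext ((mem_centralizer_iff.1 (hNE (s g).2) _
          (hker _ hz')).symm)
      · have hC : commutator (Shrink.{0} E) = ⊤ := by
          apply map_injective (f := s.toMonoidHom) s.injective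
          rw [_root_.commutator_def, map_commutator,
            map_top_of_surjective _ s.surjective, ← _root_.commutator_def, hperf]
        rw [hC]; exact le_top
    obtain ⟨φ, hφ⟩ := S2034.result.2 (Shrink.{0} E) σ hσ
    have hbot : σ.ker = ⊥ := by
      refine card_eq_one.1 (Nat.le_antisymm ?_ Nat.card_pos)
      have := Nat.card_le_card_of_surjective φ hφ
      simpa using this
    intro a b hab
    have hinj := (MonoidHom.ker_eq_bot_iff σ).1 hbot
    have := hinj (a₁ := s.symm a) (a₂ := s.symm b) (by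
      show i (π _) = i (π _)
      simp [hab])
    exact s.symm.injective this
  let e : E ≃* M := MulEquiv.ofBijective π ⟨hπi, hπs⟩
  let f : N × E →* G :=
    { toFun := fun p => (p.1 : G) * p.2
      map_one' := by simp
      map_mul' := fun p q => by
        have hc : (q.1 : G) * p.2 = p.2 * q.1 := mem_centralizer_iff.1 (hNE p.2.2) _ q.1.2
        simp only [Prod.fst_mul, Prod.snd_mul, Subgroup.coe_mul]
        calc (p.1 : G) * q.1 * (p.2 * q.2) = p.1 * (q.1 * p.2) * q.2 := by group
          _ = p.1 * (p.2 * q.1) * q.2 := by rw [hc]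
          _ = p.1 * p.2 * (q.1 * q.2) := by group }
  have hf : Function.Injective f := by
    refine (MonoidHom.ker_eq_bot_iff f).1 (le_bot_iff.1 fun p hp => ?_)
    obtain ⟨⟨n, hn⟩, x⟩ := p
    have hx : n * (x : G) = 1 := hp
    have hxN : (x : G) ∈ N := by rw [eq_inv_of_mul_eq_one_right hx]; exact inv_mem hn
    have hx1 : x = 1 := hπi (Subtype.ext (by
      rw [map_one]; exact (QuotientGroup.eq_one_iff _).2 hxN))
    subst hx1
    simp only [OneMemClass.coe_one, mul_one] at hx
    subst hx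
    rfl
  have hbij : Function.Bijective f := by
    refine hf.bijective_of_nat_card_le (le_of_eq ?_)
    rw [Nat.card_prod, hN, Nat.card_congr e.toEquiv, hM, hcard]
  exact ⟨⟨((MulEquiv.refl N).prodCongr e.symm).trans (MulEquiv.ofBijective f hbij)⟩, hN⟩

/-- The degree in the small factor. -/
theorem three_vertex {R M : Type u} [Group R] [Finite R] [Group M] [Finite M] [IsSimpleGroup M]
    (hR : Nat.card R = 12) (hM : Nat.card M = 7920) (φ : R × M ≃* G)
    (h33 : ∃ d ∈ Cfsg.charDegrees G, 3 * 11 ∣ d) : 3 ∈ Cfsg.degreePrimes R := by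
  classical
  obtain ⟨d, ⟨χ, hχd⟩, hd⟩ := h33
  obtain ⟨α, β, hαβ⟩ := exists_factors (⟨(χ : G → ℂ) ∘ φ, (isIrrCharacter_comp_mulEquiv φ).2 χ.2⟩ :
    Cfsg.IrrCharacter (R × M))
  obtain ⟨a, ha, ha0, had⟩ := irr_degree_dvd_card α.2
  obtain ⟨b, hb, hb0, hbd⟩ := irr_degree_dvd_card β.2
  have hab : d = a * b := by
    rw [← hχd, charDegree_natCast (d := a * b)]
    rw [Nat.cast_mul, ← ha, ← hb, ← hαβ]
    exact (congrArg (χ : G → ℂ) φ.map_one).symm
  refine ⟨Nat.prime_three, a, ⟨α, charDegree_natCast ha⟩, ?_⟩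
  by_contra h3a
  have h11a : ¬ 11 ∣ a := fun h => by
    have := h.trans (hR ▸ had)
    norm_num at this
  have h3b : 3 ∣ b := (Nat.prime_three.dvd_mul.1 ((dvd_mul_right 3 11).trans (hab ▸ hd))).resolve_left h3a
  have h11b : 11 ∣ b :=
    ((by norm_num : Nat.Prime 11).dvd_mul.1 ((dvd_mul_left 11 3).trans (hab ▸ hd))).resolve_left h11a
  have h := (S4429.result hM).2 b
  rw [if_neg (by omega), if_neg (by omega), if_neg (by omega)] at h
  haveI : Nonempty {χ : Cfsg.IrrCharacter M // Cfsg.charDegree (χ : M → ℂ) = b} :=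
    ⟨⟨β, charDegree_natCast hb⟩⟩
  exact (Nat.card_pos).ne' h

/-- The groups with these degrees. -/
theorem main (hcard : Nat.card G = 95040) (h11 : 11 ∈ Cfsg.degreePrimes G)
    (h55 : ∃ d ∈ Cfsg.charDegrees G, 5 * 11 ∣ d) (h33 : ∃ d ∈ Cfsg.charDegrees G, 3 * 11 ∣ d) :
    Cfsg.IsM12 G ∨ Nonempty (G ≃* alternatingGroup (Fin 4) × ↥Cfsg.Spor.M11) := by
  classical
  obtain ⟨N, hN, M, hMn, hMs, hnc, hM11, hcen, hNE, hmap, hperf⟩ := exists_section hcard h11
  have hmulQ := card_eq_card_quotient_mul_card_subgroup N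
  have hdM : Nat.card M ∣ 95040 :=
    (card_subgroup_dvd_card M).trans (hcard ▸ ⟨_, hmulQ⟩)
  rcases card_cases hnc hM11 hdM with h | h | h
  · exact (false_of_660 hcard N hNE (by rw [hmap]; exact h) h55).elim
  · right
    obtain ⟨⟨φ⟩, hN12⟩ := product_of_7920 hcard N M h hcen hNE hmap hperf
    have hIs : Cfsg.IsM11 M := ⟨hMs, h⟩
    obtain ⟨i⟩ := M11Order.Unique.equiv hIs Recognition.MathieuEleven.isM11_M11
    obtain ⟨j⟩ := equiv_alternating hN12 (three_vertex hN12 h φ h33)
    exact ⟨φ.symm.trans (j.prodCongr i)⟩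
  · left
    have h1 := Nat.le_of_dvd Nat.card_pos (card_subgroup_dvd_card M)
    rw [h] at h1
    have hN1 : Nat.card N = 1 := by
      have h0 : 0 < Nat.card N := Nat.card_pos
      have := Nat.mul_le_mul_right (Nat.card N) h1
      rw [← hmulQ, hcard] at this
      omega
    have hQ : Nat.card (G ⧸ N) = 95040 := by rw [hcard, hN1, mul_one] at hmulQ; omega
    have htop : M = ⊤ := eq_top_of_card_eq M (by rw [h, hQ])
    let e : M ≃* G :=
      ((MulEquiv.subgroupCongr htop).trans Subgroup.topEquiv).trans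
        ((QuotientGroup.quotientMulEquivOfEq (card_eq_one.1 hN1)).trans QuotientGroup.quotientBot)
    exact ⟨e.isSimpleGroup_congr.mp hMs, hcard⟩

end Cfsg.Agent.M12Order.Graph
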